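import Groth.Agent.H66.ConjRat.Torsion
import Mathlib

/-!
Galois stable sets of geometric points over a perfect field, their vanishing ideals, and idempotent functions.
-/

set_option autoImplicit false
set_option linter.unusedSectionVars false
set_option linter.style.haveILetI false
universe u

namespace Groth.Agent.H66.ConjRat.GalPts

open TensorProduct WithConv Groth.Agent.H66.MultExt

noncomputable section

variable {k : Type u} [Field k] [PerfectField k] {K : Type u} [Field K] [Algebra k K] [IsAlgClosed K]
  [Algebra.IsAlgebraic k K]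

theorem mem_range_of_fixed {x : K} (h : ∀ σ : K ≃ₐ[k] K, σ x = x) : x ∈ Set.range (algebraMap k K) := by
  haveI : IsAlgClosure k K := ⟨‹_›, ‹_›⟩
  haveI : Normal k K := IsAlgClosure.normal k K
  exact mem_range_of_fixed_separable
    (PerfectField.separable_of_irreducible (minpoly.irreducible (Algebra.IsIntegral.isIntegral x))) h

/-- Linearly independent scalars stay independent after all conjugations. -/
theorem eq_zero_of_forall_galois {ι : Type*} (b : ι → K) (hb : LinearIndependent k b) (s : Finset ι) :
    ∀ c : ι → K, (∀ σ : K ≃ₐ[k] K, ∑ i ∈ s, σ (b i) * c i = 0) → ∀ i ∈ s, c i = 0 := by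
  classical
  induction s using Finset.induction_on with
  | empty => intro c _ i hi; simp at hi
  | insert j s hj ih =>
    intro c hc
    by_cases hcj : c j = 0
    · intro i hi
      rcases Finset.mem_insert.1 hi with rfl | hi
      · exact hcj
      · exact ih c (fun σ => by simpa [Finset.sum_insert hj, hcj] using hc σ) i hi
    exfalso
    let c' : ι → K := fun i => c i / c j
    have hc' : ∀ σ : K ≃ₐ[k] K, σ (b j) + ∑ i ∈ s, σ (b i) * c' i = 0 := fun σ => by
      have h := congrArg (fun z => z / c j) (hc σ)
      simp only [Finset.sum_insert hj, add_div, Finset.sum_div, zero_div] at h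
      rw [mul_div_assoc, div_self hcj, mul_one] at h
      simpa [c', mul_div_assoc] using h
    have hfix : ∀ i ∈ s, ∀ τ : K ≃ₐ[k] K, τ (c' i) = c' i := by
      intro i hi τ
      have h := ih (fun i => τ (c' i) - c' i) (fun σ => by
        have h1 := congrArg τ (hc' (τ⁻¹ * σ))
        have e : ∀ x, τ ((τ⁻¹ * σ) x) = σ x := fun x => by
          rw [← AlgEquiv.mul_apply, mul_inv_cancel_left]
        simp only [map_add, map_sum, map_mul, map_zero, e] at h1
        have h2 := hc' σ
        simp only [mul_sub, Finset.sum_sub_distrib]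
        linear_combination h1 - h2) i hi
      exact sub_eq_zero.1 h
    choose g hg using fun i (hi : i ∈ s) => mem_range_of_fixed (hfix i hi)
    let coef : ι → k := fun i => if hi : i ∈ s then g i hi else 1
    have hz : ∑ i ∈ insert j s, coef i • b i = 0 := by
      have h := hc' 1
      rw [Finset.sum_insert hj, Algebra.smul_def, show coef j = 1 from dif_neg hj, map_one, one_mul]
      refine Eq.trans ?_ h
      congr 1
      refine Finset.sum_congr rfl fun i hi => ?_
      rw [Algebra.smul_def, show coef i = g i hi from dif_pos hi, hg i hi, mul_comm]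
      rfl
    have := linearIndependent_iff'.1 hb _ coef hz j (Finset.mem_insert_self j s)
    rw [show coef j = 1 from dif_neg hj] at this
    exact one_ne_zero this

variable {R : Type u} [CommRing R] [Algebra k R]

/-- Evaluation of a function with coefficients in `K` at a point. -/
def ev (z : R →ₐ[k] K) : K ⊗[k] R →ₐ[K] K :=
  Algebra.TensorProduct.lift (AlgHom.id K K) z fun _ _ => Commute.all _ _

@[simp] theorem ev_tmul (z : R →ₐ[k] K) (c : K) (a : R) : ev z (c ⊗ₜ[k] a) = c * z a :=
  Algebra.TensorProduct.lift_tmul _ _ (fun _ _ => Commute.all _ _) _ _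

/-- Stability of a set of points under conjugation. -/
def IsStable (S : Set (R →ₐ[k] K)) : Prop := ∀ σ : K ≃ₐ[k] K, ∀ z ∈ S, (σ : K →ₐ[k] K).comp z ∈ S

theorem isStable_univ : IsStable (Set.univ : Set (R →ₐ[k] K)) := fun _ _ _ => trivial

/-- The functions vanishing on a set of points. -/
def vanish (S : Set (R →ₐ[k] K)) : Ideal R := ⨅ z ∈ S, RingHom.ker (z : R →+* K)

theorem mem_vanish {S : Set (R →ₐ[k] K)} {a : R} : a ∈ vanish S ↔ ∀ z ∈ S, z a = 0 := by
  simp [vanish, RingHom.mem_ker]

theorem eq_zero_of_forall_pt [Algebra.FiniteType k R] [IsReduced R] {a : R} (h : ∀ z : R →ₐ[k] K, z a = 0) : a = 0 := by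
  haveI : IsJacobsonRing R := isJacobsonRing_of_finiteType (A := k)
  have h1 : a ∈ (⊥ : Ideal R).jacobson := Ideal.mem_sInf.2 fun m hm => by
    haveI := hm.2
    letI : Field (R ⧸ m) := Ideal.Quotient.field m
    haveI : Module.Finite k (R ⧸ m) := finite_of_finite_type_of_isJacobsonRing k (R ⧸ m)
    have h2 := h ((IsAlgClosed.lift : R ⧸ m →ₐ[k] K).comp (Ideal.Quotient.mkₐ k m))
    exact Ideal.Quotient.eq_zero_iff_mem.1 ((map_eq_zero (IsAlgClosed.lift : R ⧸ m →ₐ[k] K)).1 h2)
  rwa [IsJacobsonRing.out' _ (Ideal.isRadical_bot_iff.2 inferInstance), Ideal.mem_bot] at h1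

/-- A function with coefficients in `K` vanishing on a stable set vanishes in the quotient by its ideal. -/
theorem map_eq_zero_of_vanish {S : Set (R →ₐ[k] K)} (hS : IsStable S) {w : K ⊗[k] R}
    (h : ∀ z ∈ S, ev z w = 0) :
    Algebra.TensorProduct.map (AlgHom.id k K) (Ideal.Quotient.mkₐ k (vanish S)) w = 0 := by
  classical
  let b := Module.Free.chooseBasis k K
  let e := TensorProduct.equivFinsuppOfBasisLeft b (N := R)
  have hw : w = ∑ i ∈ (e w).support, b i ⊗ₜ[k] e w i := by
    conv_lhs => rw [← e.symm_apply_apply w, TensorProduct.equivFinsuppOfBasisLeft_symm_apply]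
    rfl
  have hcoef : ∀ i ∈ (e w).support, e w i ∈ vanish S := fun i hi => mem_vanish.2 fun z hz =>
    eq_zero_of_forall_galois b b.linearIndependent (e w).support (fun i => z (e w i)) (fun σ => by
      have h1 := h _ (hS σ⁻¹ z hz)
      rw [hw, map_sum] at h1
      simp only [ev_tmul, AlgHom.coe_comp, AlgEquiv.coe_toAlgHom, Function.comp_apply] at h1
      have h2 := congrArg σ h1
      simp only [map_sum, map_mul, map_zero] at h2
      refine Eq.trans (Finset.sum_congr rfl fun i _ => ?_) h2
      rw [← AlgEquiv.mul_apply, mul_inv_cancel]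
      rfl) i hi
  rw [hw, map_sum]
  refine Finset.sum_eq_zero fun i hi => ?_
  rw [Algebra.TensorProduct.map_tmul, Ideal.Quotient.mkₐ_eq_mk, Ideal.Quotient.eq_zero_iff_mem.2 (hcoef i hi),
    TensorProduct.tmul_zero]

theorem ev_eq_zero_of_vanish {S : Set (R →ₐ[k] K)} (hS : IsStable S) {w : K ⊗[k] R} (h : ∀ z ∈ S, ev z w = 0)
    (z : R →ₐ[k] K) (hz : ∀ a ∈ vanish S, z a = 0) : ev z w = 0 := by
  let z' : R ⧸ vanish S →ₐ[k] K := Ideal.Quotient.liftₐ _ z hz
  have hnat : ∀ v, ev z v = ev z' (Algebra.TensorProduct.map (AlgHom.id k K) (Ideal.Quotient.mkₐ k (vanish S)) v) := by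
    intro v
    induction v using TensorProduct.induction_on with
    | zero => simp
    | add p q hp hq => simp only [map_add, hp, hq]
    | tmul c a => simp [z']
  rw [hnat, map_eq_zero_of_vanish hS h, map_zero]

theorem eq_zero_of_forall_ev [Algebra.FiniteType k R] [IsReduced R] {w : K ⊗[k] R} (h : ∀ z, ev z w = 0) : w = 0 := by
  have h0 : vanish (Set.univ : Set (R →ₐ[k] K)) = ⊥ :=
    eq_bot_iff.2 fun a ha => (Submodule.mem_bot R).2 (eq_zero_of_forall_pt fun z => mem_vanish.1 ha z trivial)
  have h1 := map_eq_zero_of_vanish isStable_univ (fun z _ => h z)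
  have hinj : Function.Injective (Algebra.TensorProduct.map (AlgHom.id k K)
      (Ideal.Quotient.mkₐ k (vanish (Set.univ : Set (R →ₐ[k] K))))) :=
    Module.Flat.lTensor_preserves_injective_linearMap (M := K)
      (Ideal.Quotient.mkₐ k (vanish (Set.univ : Set (R →ₐ[k] K)))).toLinearMap
      ((injective_iff_map_eq_zero (Ideal.Quotient.mkₐ k (vanish (Set.univ : Set (R →ₐ[k] K))))).2 fun a ha => by
        have := Ideal.Quotient.eq_zero_iff_mem.1 ha
        rwa [h0, Ideal.mem_bot] at this)
  exact hinj (h1.trans (map_zero _).symm)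

theorem isReduced_tensor [Algebra.FiniteType k R] [IsReduced R] : IsReduced (K ⊗[k] R) :=
  ⟨fun w hw => eq_zero_of_forall_ev fun z => (hw.map (ev z)).eq_zero⟩

/-- An idempotent valued function on a connected scheme is constant. -/
theorem eq_const_of_idem [Algebra.FiniteType k R] [IsReduced R]
    (hconn : ∀ e : R, IsIdempotentElem e → e = 0 ∨ e = 1) (x₀ : R →ₐ[k] k) (w : K ⊗[k] R)
    (h : ∀ z, ev z w * ev z w = ev z w) (z z' : R →ₐ[k] K) : ev z w = ev z' w := by
  have hw : IsIdempotentElem w := sub_eq_zero.1 (eq_zero_of_forall_ev fun z => by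
    rw [map_sub, map_mul, h, sub_self])
  rcases H66.MultType.idem_baseChange_algClosure hconn x₀ K w hw with rfl | rfl <;> simp

/-- Separation of a product by pairs of points. -/
theorem map_eq_zero_of_pairs {Y : Type u} [CommRing Y] [Algebra k Y] [Algebra.FiniteType k Y] [IsReduced Y]
    {S : Set (R →ₐ[k] K)} (hS : IsStable S) {w : Y ⊗[k] R}
    (h : ∀ (x : Y →ₐ[k] K), ∀ z ∈ S, Algebra.TensorProduct.lift x z (fun _ _ => Commute.all _ _) w = 0) :
    Algebra.TensorProduct.map (AlgHom.id k Y) (Ideal.Quotient.mkₐ k (vanish S)) w = 0 := by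
  classical
  let b := Module.Free.chooseBasis k (R ⧸ vanish S)
  let w' := Algebra.TensorProduct.map (AlgHom.id k Y) (Ideal.Quotient.mkₐ k (vanish S)) w
  let e := TensorProduct.equivFinsuppOfBasisRight b (M := Y)
  refine e.injective ?_
  rw [map_zero]
  refine Finsupp.ext fun i => ?_
  rw [Finsupp.zero_apply]
  refine eq_zero_of_forall_pt (k := k) (K := K) (R := Y) fun x => ?_
  let toK : Y ⊗[k] R →ₐ[k] K ⊗[k] R := Algebra.TensorProduct.map x (AlgHom.id k R)
  have hev : ∀ (z : R →ₐ[k] K) v, ev z (toK v) = Algebra.TensorProduct.lift x z (fun _ _ => Commute.all _ _) v := by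
    intro z v
    induction v using TensorProduct.induction_on with
    | zero => simp
    | add p q hp hq => simp only [map_add, hp, hq]
    | tmul y a => simp [toK]
  have h1 := map_eq_zero_of_vanish hS (w := toK w) fun z hz => by rw [hev]; exact h x z hz
  let eK := TensorProduct.equivFinsuppOfBasisRight b (M := K)
  have hnat : ∀ v : Y ⊗[k] R, x (e (Algebra.TensorProduct.map (AlgHom.id k Y) (Ideal.Quotient.mkₐ k (vanish S)) v) i) =
      eK (Algebra.TensorProduct.map (AlgHom.id k K) (Ideal.Quotient.mkₐ k (vanish S)) (toK v)) i := by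
    intro v
    induction v using TensorProduct.induction_on with
    | zero => simp
    | add p q hp hq => simp only [map_add, Finsupp.add_apply, hp, hq]
    | tmul y a => simp [e, eK, toK]
  rw [hnat, h1, map_zero, Finsupp.zero_apply]

variable {A : Type u} [CommRing A] [HopfAlgebra k A]

/-- The vanishing ideal of a stable subgroup of points is a Hopf ideal. -/
theorem isHopfIdeal_vanish [Algebra.FiniteType k A] {S : Set (A →ₐ[k] K)} (hS : IsStable S)
    (h1 : (1 : Pt k A K).ofConv ∈ S) (hmul : ∀ x ∈ S, ∀ y ∈ S, (toConv x * toConv y).ofConv ∈ S)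
    (hinv : ∀ x ∈ S, (toConv x)⁻¹.ofConv ∈ S) : (vanish S).IsHopfIdeal k := by
  classical
  let I := vanish S
  let q : A →ₐ[k] A ⧸ I := Ideal.Quotient.mkₐ k I
  haveI : IsReduced (A ⧸ I) := ⟨fun b ⟨n, hb⟩ => by
    obtain ⟨a, rfl⟩ := Ideal.Quotient.mk_surjective b
    rw [← map_pow, Ideal.Quotient.eq_zero_iff_mem] at hb
    refine Ideal.Quotient.eq_zero_iff_mem.2 (mem_vanish.2 fun z hz => ?_)
    have := mem_vanish.1 hb z hz
    rw [map_pow] at this
    exact eq_zero_of_pow_eq_zero this⟩
  haveI : Algebra.FiniteType k (A ⧸ I) := Algebra.FiniteType.of_surjective q Ideal.Quotient.mk_surjective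
  have hε : ∀ a ∈ I, CoalgebraStruct.counit (R := k) a = 0 := fun a ha => by
    have h := mem_vanish.1 ha _ h1
    refine (algebraMap k K).injective ?_
    rw [map_zero]
    exact h
  have hΔ : ∀ a ∈ I, Algebra.TensorProduct.map q q (CoalgebraStruct.comul (R := k) a) = 0 := by
    intro a ha
    -- separate first by a point in the quotient, then in the second factor
    let w : (A ⧸ I) ⊗[k] A := Algebra.TensorProduct.map q (AlgHom.id k A) (CoalgebraStruct.comul (R := k) a)
    have hw : Algebra.TensorProduct.map (AlgHom.id k (A ⧸ I)) q w = 0 := by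
      let Sa : Set (A →ₐ[k] K) := S
      refine map_eq_zero_of_pairs (K := K) hS fun x z hz => ?_
      have hnat : ∀ v : A ⊗[k] A, Algebra.TensorProduct.lift x z (fun _ _ => Commute.all _ _)
          (Algebra.TensorProduct.map q (AlgHom.id k A) v) =
          Algebra.TensorProduct.lift (x.comp q) z (fun _ _ => Commute.all _ _) v := by
        intro v
        induction v using TensorProduct.induction_on with
        | zero => simp
        | add p q hp hq => simp only [map_add, hp, hq]
        | tmul p r => simp
      rw [hnat]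
      have key : ∀ y : A →ₐ[k] K, y ∈ S → Algebra.TensorProduct.lift y z (fun _ _ => Commute.all _ _)
          (CoalgebraStruct.comul (R := k) a) = 0 := fun y hy => by
        have h := mem_vanish.1 ha _ (hmul y hy z hz)
        rw [AlgHom.convMul_apply] at h
        exact h
      -- points of the quotient are limits of points of the set
      let u : K ⊗[k] A := (Algebra.TensorProduct.comm k A K).toAlgHom
        (Algebra.TensorProduct.map (AlgHom.id k A) z (CoalgebraStruct.comul (R := k) a))
      have hu : ∀ y : A →ₐ[k] K, ev y u = Algebra.TensorProduct.lift y z (fun _ _ => Commute.all _ _)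
          (CoalgebraStruct.comul (R := k) a) := by
        intro y
        simp only [u]
        generalize CoalgebraStruct.comul (R := k) a = v
        induction v using TensorProduct.induction_on with
        | zero => simp
        | add p q hp hq => simp only [map_add, hp, hq]
        | tmul p r => simp [mul_comm]
      rw [← hu]
      exact ev_eq_zero_of_vanish hS (fun y hy => (hu y).trans (key y hy)) (x.comp q)
        fun b hb => by
          show x (Ideal.Quotient.mk I b) = 0
          rw [Ideal.Quotient.eq_zero_iff_mem.2 (show b ∈ I from hb), map_zero]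
    have hnat : ∀ v : A ⊗[k] A, Algebra.TensorProduct.map (AlgHom.id k (A ⧸ I)) q
        (Algebra.TensorProduct.map q (AlgHom.id k A) v) = Algebra.TensorProduct.map q q v := by
      intro v
      induction v using TensorProduct.induction_on with
      | zero => simp
      | add p q hp hq => simp only [map_add, hp, hq]
      | tmul p r => simp
    rw [← hnat]
    exact hw
  exact
    { counit_eq_zero := fun x hx => hε x hx
      map_mkQ_comul_eq_zero := fun x hx => by
        have key : ∀ z : A ⊗[k] A, TensorProduct.map (Submodule.restrictScalars k I).mkQ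
            (Submodule.restrictScalars k I).mkQ z = Algebra.TensorProduct.map q q z := by
          intro z
          induction z using TensorProduct.induction_on with
          | zero => rw [map_zero, map_zero]; rfl
          | add p q hp hq => rw [map_add, map_add, hp, hq]; rfl
          | tmul p q => rfl
        exact (key _).trans (hΔ x hx)
      antipode_mem := fun x hx => mem_vanish.2 fun z hz => by
        have h2 : (toConv z : Pt k A K)⁻¹ = toConv (z.comp (HopfAlgebra.antipodeAlgHom k A)) := by
          refine inv_eq_of_mul_eq_one_left ?_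
          have h := AlgHom.comp_convMul_distrib z (toConv (HopfAlgebra.antipodeAlgHom k A)) (toConv (AlgHom.id k A))
          rw [AlgHom.antipode_id_cancel] at h
          apply WithConv.ofConv_injective
          rw [toConv_ofConv, toConv_ofConv, AlgHom.comp_id] at h
          rw [← h]
          ext y
          simp
        have h3 := mem_vanish.1 hx _ (hinv z hz)
        rw [h2] at h3
        exact h3 }

end

end Groth.Agent.H66.ConjRat.GalPts
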