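import Groth.Agent.H66.ConjRat.Torsion
import Mathlib

/-!
Conjugacy by a rational point of two retractions onto a smooth group of multiplicative type when the kernel is
a commutative unipotent group.
-/

set_option autoImplicit false
set_option linter.unusedSectionVars false
set_option linter.style.haveILetI false
universe u

namespace Groth.Agent.H66.ConjRat

open TensorProduct WithConv Groth.Agent.H66.MultExt

noncomputable section

theorem isCocomm_of_multType {k : Type u} [Field k] {B : Type u} [CommRing B] [HopfAlgebra k B]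
    (hB : SGA3b.IsMultTypeConst k B) : Coalgebra.IsCocomm k B := by
  let Ω := AlgebraicClosure k
  haveI := H66.DiagCrit.comm_of_span (H66.MultExt.isDiagonalizable_algClosed k B hB Ω)
  refine ⟨LinearMap.ext fun b => ?_⟩
  simp only [LinearMap.comp_apply, LinearEquiv.coe_coe]
  apply Algebra.TensorProduct.includeRight_injective (R := k) (A := Ω) (B := B ⊗[k] B) (algebraMap k Ω).injective
  have h := Coalgebra.comm_comul Ω ((1 : Ω) ⊗ₜ[k] b)
  rw [H66.Tame.comul_baseChange, LinearMap.baseChange_tmul] at h
  have key : ∀ w : B ⊗[k] B, TensorProduct.comm Ω (Ω ⊗[k] B) (Ω ⊗[k] B)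
      (AlgebraTensorModule.distribBaseChange k Ω B B ((1 : Ω) ⊗ₜ[k] w)) =
      AlgebraTensorModule.distribBaseChange k Ω B B ((1 : Ω) ⊗ₜ[k] TensorProduct.comm k B B w) := by
    intro w
    induction w using TensorProduct.induction_on with
    | zero => simp
    | add p q hp hq => simp only [TensorProduct.tmul_add, map_add, hp, hq]
    | tmul p q => rw [TensorProduct.comm_tmul, AlgebraTensorModule.distribBaseChange_tmul,
        AlgebraTensorModule.distribBaseChange_tmul, TensorProduct.comm_tmul]
  rw [key] at h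
  exact (AlgebraTensorModule.distribBaseChange k Ω B B).injective h

variable {k : Type u} [Field k] {A B : Type u} [CommRing A] [HopfAlgebra k A] [CommRing B] [HopfAlgebra k B]

/-- Points trivial on the quotient kill the ideal of the kernel. -/
theorem kills_of_pre_eq_one (ψ : B →ₐc[k] A) {J : Ideal A}
    (hJ : J = Ideal.map (ψ : B →+* A) (RingHom.ker (Bialgebra.counitAlgHom k B))) {R : Type u} [CommRing R]
    [Algebra k R] {F : Pt k A R} (hF : pre ψ F = 1) : ∀ a ∈ J, F.ofConv a = 0 := by
  have : J ≤ RingHom.ker F.ofConv := by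
    rw [hJ]
    refine Ideal.map_le_iff_le_comap.2 fun b hb => ?_
    show (pre ψ F).ofConv b = 0
    rw [hF]
    show algebraMap k R (CoalgebraStruct.counit (R := k) b) = 0
    rw [show CoalgebraStruct.counit (R := k) b = 0 from hb, map_zero]
  exact fun a ha => this ha

theorem exists_pre_mk (ψ : B →ₐc[k] A) (J : Ideal A) [J.IsHopfIdeal k]
    (hJ : J = Ideal.map (ψ : B →+* A) (RingHom.ker (Bialgebra.counitAlgHom k B))) {R : Type u} [CommRing R]
    [Algebra k R] {F : Pt k A R} (hF : pre ψ F = 1) :
    ∃ F' : Pt k (A ⧸ J) R, pre (Bialgebra.Quotient.mkBialgHom (R := k) J : A →ₐc[k] A ⧸ J) F' = F :=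
  ⟨toConv (Ideal.Quotient.liftₐ J F.ofConv (kills_of_pre_eq_one ψ hJ hF)),
    WithConv.ofConv_injective (AlgHom.ext fun _ => rfl)⟩

theorem pre_mk_injective (J : Ideal A) [J.IsHopfIdeal k] {R : Type u} [CommRing R] [Algebra k R] :
    Function.Injective (pre (Bialgebra.Quotient.mkBialgHom (R := k) J : A →ₐc[k] A ⧸ J) (R := R)) := fun F G h =>
  WithConv.ofConv_injective (Ideal.Quotient.algHom_ext k (congrArg WithConv.ofConv h))

theorem pre_psi_pre_mk (ψ : B →ₐc[k] A) (J : Ideal A) [J.IsHopfIdeal k]
    (hJ : J = Ideal.map (ψ : B →+* A) (RingHom.ker (Bialgebra.counitAlgHom k B))) {R : Type u} [CommRing R]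
    [Algebra k R] (F : Pt k (A ⧸ J) R) :
    pre ψ (pre (Bialgebra.Quotient.mkBialgHom (R := k) J : A →ₐc[k] A ⧸ J) F) = 1 := by
  refine WithConv.ofConv_injective (AlgHom.ext fun b => ?_)
  show F.ofConv (Ideal.Quotient.mk J (ψ b)) = algebraMap k R (CoalgebraStruct.counit (R := k) b)
  rw [← AlgHom.commutes F.ofConv]
  congr 1
  refine Ideal.Quotient.eq.2 ?_
  rw [hJ, show algebraMap k A (CoalgebraStruct.counit (R := k) b) =
    (ψ : B →ₐ[k] A) (algebraMap k B (CoalgebraStruct.counit (R := k) b)) from (AlgHom.commutes _ _).symm,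
    show ψ b = (ψ : B →ₐ[k] A) b from rfl, ← map_sub]
  refine Ideal.mem_map_of_mem _ ?_
  show Bialgebra.counitAlgHom k B _ = 0
  rw [map_sub, AlgHom.commutes]
  exact sub_self _

variable [Algebra.FiniteType k A] [Algebra.FiniteType k B]

theorem retractions_conj_of_comm (hB : SGA3b.IsMultTypeConst k B) (ψ : B →ₐc[k] A) (J : Ideal A) [J.IsHopfIdeal k]
    (hJ : J = Ideal.map (ψ : B →+* A) (RingHom.ker (Bialgebra.counitAlgHom k B)))
    (hU : HopfRep.IsUnipotent k (A ⧸ J)) [Algebra.FormallySmooth k B] [Coalgebra.IsCocomm k (A ⧸ J)]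
    (r' r'' : A →ₐc[k] B) (hr' : r'.comp ψ = BialgHom.id k B) (hr'' : r''.comp ψ = BialgHom.id k B) :
    ∃ u : Pt k A k, (∀ a ∈ J, u.ofConv a = 0) ∧
      toConv (r'' : A →ₐ[k] B) = post (Algebra.ofId k B) u * toConv (r' : A →ₐ[k] B) *
        (post (Algebra.ofId k B) u)⁻¹ := by
  classical
  haveI : Coalgebra.IsCocomm k B := isCocomm_of_multType hB
  let K := AlgebraicClosure k
  obtain ⟨M, _, ⟨e⟩⟩ := H66.EtExt.isDiag_algClosed k B hB K
  let mk : A →ₐc[k] A ⧸ J := Bialgebra.Quotient.mkBialgHom (R := k) J
  let inc : Pt k A k →* Pt k A K := post (Algebra.ofId k K)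
  -- the kernel group of points
  have hcomm : ∀ {R : Type u} [CommRing R] [Algebra k R] (F G : Pt k A R), pre ψ F = 1 → pre ψ G = 1 → Commute F G := by
    intro R _ _ F G hF hG
    obtain ⟨F', rfl⟩ := exists_pre_mk ψ J hJ hF
    obtain ⟨G', rfl⟩ := exists_pre_mk ψ J hJ hG
    exact (commute_of_cocomm F' G').map _
  haveI : Algebra.FiniteType k (A ⧸ J) :=
    Algebra.FiniteType.of_surjective (mk : A →ₐ[k] A ⧸ J) Ideal.Quotient.mk_surjective
  have hrψ : ∀ r : A →ₐc[k] B, r.comp ψ = BialgHom.id k B → ∀ h : Pt k B K, pre ψ (pre r h) = h := fun r hr h =>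
    WithConv.ofConv_injective (AlgHom.ext fun b =>
      congrArg h.ofConv (congrArg (fun f : B →ₐc[k] B => f b) hr))
  let s : Pt k B K →* Pt k A K := pre r'
  let s'' : Pt k B K →* Pt k A K := pre r''
  let c : Pt k B K → Pt k A K := fun h => s'' h * (s h)⁻¹
  have hc : ∀ h, pre ψ (c h) = 1 := fun h => by
    rw [map_mul, map_inv, hrψ r'' hr'', hrψ r' hr', mul_inv_cancel]
  let cB : Pt k A B := toConv (r'' : A →ₐ[k] B) * (toConv (r' : A →ₐ[k] B))⁻¹
  have hcB : ∀ h : Pt k B K, c h = post h.ofConv cB := fun h => by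
    show _ = post h.ofConv (toConv (r'' : A →ₐ[k] B) * (toConv (r' : A →ₐ[k] B))⁻¹)
    rw [map_mul, post_inv]
    rfl
  have hccl : ∀ g h, c (g * h) = c g * (s g * c h * (s g)⁻¹) := fun g h => by
    simp only [c, map_mul, mul_inv_rev]
    group
  -- finitely many torsion points
  let G : ℕ → Set (Pt k B K) := fun n => {h | h ^ n = 1}
  have hGm : ∀ {n : ℕ}, (n : k) ≠ 0 → ∀ g ∈ G n, ∀ h ∈ G n, g * h ∈ G n := fun {n} _ g hg h hh => by
    show (g * h) ^ n = 1
    rw [(commute_of_cocomm g h).mul_pow, show g ^ n = 1 from hg, show h ^ n = 1 from hh, one_mul]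
  -- averaging
  have hstep : ∀ n : ℕ, (n : k) ≠ 0 → ∃ u : Pt k A k, pre ψ u = 1 ∧ ∀ h ∈ G n, s'' h = inc u * s h * (inc u)⁻¹ := by
    intro n hn
    have hn0 : 0 < n := Nat.pos_of_ne_zero fun h => hn (by rw [h, Nat.cast_zero])
    haveI : Fintype (G n) := (finite_torsion e hn0).fintype
    let N := Fintype.card (G n)
    have hN : (N : k) ≠ 0 := by
      intro h0
      obtain ⟨p, hp⟩ := CharP.exists k
      rcases CharP.char_is_prime_or_zero k p with hpp | rfl
      · haveI := Fact.mk hpp
        let H : Subgroup (Pt k B K) :=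
          { carrier := G n
            one_mem' := one_pow _
            mul_mem' := fun {a b} ha hb => hGm hn a ha b hb
            inv_mem' := fun {a} ha => by
              show a⁻¹ ^ n = 1
              rw [inv_pow, show a ^ n = 1 from ha, inv_one] }
        haveI : Fintype H := (inferInstance : Fintype (G n))
        have hdvd : p ∣ Fintype.card H := by
          have := (CharP.cast_eq_zero_iff k p N).1 h0
          rw [Fintype.card_eq_nat_card]
          rw [show N = Nat.card (G n) from Fintype.card_eq_nat_card] at this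
          exact this
        obtain ⟨x, hx⟩ := exists_prime_orderOf_dvd_card p hdvd
        have h1 : p ∣ n := hx ▸ orderOf_dvd_of_pow_eq_one (Subtype.ext x.2)
        exact hn ((CharP.cast_eq_zero_iff k p n).2 h1)
      · haveI : CharZero k := CharP.charP_to_charZero k
        haveI : Nonempty (G n) := ⟨⟨1, one_pow _⟩⟩
        exact Fintype.card_ne_zero (Nat.cast_eq_zero.1 h0)
    let c' : G n → Pt k (A ⧸ J) K := fun h => Classical.choose (exists_pre_mk ψ J hJ (hc h.1))
    have hc' : ∀ h, pre mk (c' h) = c h.1 := fun h => Classical.choose_spec (exists_pre_mk ψ J hJ (hc h.1))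
    letI : CommMonoid (Pt k (A ⧸ J) K) :=
      { (inferInstance : Monoid (Pt k (A ⧸ J) K)) with mul_comm := fun a b => commute_of_cocomm a b }
    let S' : Pt k (A ⧸ J) K := ∏ h, c' h
    -- the sum is rational
    have hval : ∀ x, S'.ofConv x ∈ separableClosure k K := by
      intro x
      let L := separableClosure k K
      have hl : ∀ h : G n, ∀ y, (c' h).ofConv y ∈ L := by
        intro h y
        obtain ⟨a, rfl⟩ := Ideal.Quotient.mk_surjective y
        rw [show (c' h).ofConv (Ideal.Quotient.mk J a) = (c h.1).ofConv a from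
          congrArg (fun F : Pt k A K => F.ofConv a) (hc' h), hcB]
        exact mem_separableClosure_iff.2 (isSeparable_of_pow_eq_one h.1 hn h.2 _)
      let c₀ : G n → Pt k (A ⧸ J) L := fun h => toConv
        { toFun := fun y => ⟨(c' h).ofConv y, hl h y⟩
          map_one' := Subtype.ext (map_one _)
          map_mul' := fun a b => Subtype.ext (map_mul _ a b)
          map_zero' := Subtype.ext (map_zero _)
          map_add' := fun a b => Subtype.ext (map_add _ a b)
          commutes' := fun r => Subtype.ext (AlgHom.commutes _ r) }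
      letI : CommMonoid (Pt k (A ⧸ J) L) :=
        { (inferInstance : Monoid (Pt k (A ⧸ J) L)) with mul_comm := fun a b => commute_of_cocomm a b }
      have hS : S' = post L.val (∏ h, c₀ h) := by
        rw [map_prod]
        exact Finset.prod_congr rfl fun h _ => rfl
      rw [hS]
      exact ((∏ h, c₀ h).ofConv x).2
    have hfix : ∀ σ : K ≃ₐ[k] K, post (σ : K →ₐ[k] K) S' = S' := by
      intro σ
      have hmem : ∀ h : Pt k B K, h ∈ G n → post (σ : K →ₐ[k] K) h ∈ G n := fun h hh => by
        show (post (σ : K →ₐ[k] K) h) ^ n = 1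
        rw [← map_pow, show h ^ n = 1 from hh, map_one]
      let τ : G n → G n := fun h => ⟨post (σ : K →ₐ[k] K) h.1, hmem _ h.2⟩
      have hτ : Function.Bijective τ := (Finite.injective_iff_bijective).1 fun a b hab =>
        Subtype.ext (WithConv.ofConv_injective (AlgHom.ext fun x => σ.injective
          (congrArg (fun F : Pt k B K => F.ofConv x) (congrArg Subtype.val hab))))
      rw [map_prod]
      have : ∀ h, post (σ : K →ₐ[k] K) (c' h) = c' (τ h) := fun h => by
        apply pre_mk_injective J
        show post (σ : K →ₐ[k] K) (pre mk (c' h)) = pre mk (c' (τ h))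
        rw [hc', hc', hcB, hcB]
        exact WithConv.ofConv_injective (AlgHom.ext fun x => rfl)
      simp only [this]
      exact Fintype.prod_bijective τ hτ _ _ fun _ => rfl
    have hrat : ∀ x, S'.ofConv x ∈ Set.range (algebraMap k K) := fun x =>
      mem_range_of_fixed_separable (mem_separableClosure_iff.1 (hval x))
        fun σ => congrArg (fun F : Pt k (A ⧸ J) K => F.ofConv x) (hfix σ)
    choose f hf using hrat
    have hinj := (algebraMap k K).injective
    let S₀ : Pt k (A ⧸ J) k := toConv
      { toFun := f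
        map_one' := hinj (by rw [hf, map_one, map_one])
        map_mul' := fun a b => hinj (by rw [hf, map_mul, map_mul, hf, hf])
        map_zero' := hinj (by rw [hf, map_zero, map_zero])
        map_add' := fun a b => hinj (by rw [hf, map_add, map_add, hf, hf])
        commutes' := fun r => hinj (by rw [hf]; exact AlgHom.commutes _ r) }
    obtain ⟨u₀, hu₀⟩ := (pow_bijective (k := k) hU hN).2 S₀
    refine ⟨pre mk u₀, pre_psi_pre_mk ψ J hJ u₀, fun g hg => ?_⟩
    let u' : Pt k (A ⧸ J) K := post (Algebra.ofId k K) u₀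
    have hu' : u' ^ N = S' := by
      rw [← map_pow, show u₀ ^ N = S₀ from hu₀]
      exact WithConv.ofConv_injective (AlgHom.ext fun x => hf x)
    show s'' g = pre mk u' * s g * (pre mk u')⁻¹
    set u := pre mk u' with hu
    -- the translation identity
    have hgS : (c g) ^ N * (s g * pre mk S' * (s g)⁻¹) = pre mk S' := by
      let conjS : Pt k A K →* Pt k A K :=
        { toFun := fun F => s g * F * (s g)⁻¹
          map_one' := by group
          map_mul' := fun F F' => by group }
      let μ : G n → G n := fun h => ⟨g * h.1, hGm hn g hg h.1 h.2⟩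
      have hμ : Function.Bijective μ := (Finite.injective_iff_bijective).1 fun a b hab =>
        Subtype.ext (mul_left_cancel (congrArg Subtype.val hab))
      have hw : ∀ h : G n, pre ψ (conjS (c h.1)) = 1 := fun h => by
        show pre ψ (s g * c h.1 * (s g)⁻¹) = 1
        rw [map_mul, map_mul, map_inv, hc, mul_one, mul_inv_cancel]
      let w : G n → Pt k (A ⧸ J) K := fun h => Classical.choose (exists_pre_mk ψ J hJ (hw h))
      have hwspec : ∀ h, pre mk (w h) = conjS (c h.1) := fun h =>
        Classical.choose_spec (exists_pre_mk ψ J hJ (hw h))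
      have h1 : ∀ h, c' (μ h) = c' ⟨g, hg⟩ * w h := fun h => pre_mk_injective J (by
        show pre mk (c' (μ h)) = pre mk (c' ⟨g, hg⟩ * w h)
        rw [map_mul, hc', hc', hwspec]
        exact hccl g h.1)
      have h2 : S' = c' ⟨g, hg⟩ ^ N * ∏ h, w h := by
        calc S' = ∏ h, c' (μ h) := (Fintype.prod_bijective μ hμ _ _ fun _ => rfl).symm
          _ = _ := by simp only [h1, Finset.prod_mul_distrib, Finset.prod_const, Finset.card_univ]; rfl
      have h3 : pre mk (∏ h, w h) = conjS (pre mk S') := by
        suffices ∀ t : Finset (G n), pre mk (∏ h ∈ t, w h) = conjS (pre mk (∏ h ∈ t, c' h)) from this _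
        intro t
        induction t using Finset.induction_on with
        | empty => simp only [Finset.prod_empty, map_one]
        | insert a t ha ih =>
          rw [Finset.prod_insert ha, Finset.prod_insert ha, map_mul, map_mul, map_mul, ih, hwspec, hc']
      conv_rhs => rw [h2, map_mul, map_pow, hc', h3]
      rfl
    have hu1 : pre ψ u = 1 := pre_psi_pre_mk ψ J hJ u'
    have hU₁ : pre ψ (u * s g * u⁻¹ * (s g)⁻¹) = 1 := by
      rw [map_mul, map_mul, map_mul, map_inv, map_inv, hu1]
      group
    have hpow : (u * s g * u⁻¹ * (s g)⁻¹) ^ N = (c g) ^ N := by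
      have h1 : u * s g * u⁻¹ * (s g)⁻¹ = u * (s g * u * (s g)⁻¹)⁻¹ := by group
      have h2 : Commute u (s g * u * (s g)⁻¹) := hcomm _ _ hu1 (by
        rw [map_mul, map_mul, map_inv, hu1, mul_one, mul_inv_cancel])
      rw [h1, h2.inv_right.mul_pow, inv_pow, conj_pow, ← map_pow, hu']
      rw [eq_comm, eq_mul_inv_iff_mul_eq]
      exact hgS
    obtain ⟨x, hx⟩ := exists_pre_mk ψ J hJ hU₁
    have hxc : x = c' ⟨g, hg⟩ := (pow_bijective_ext (K := K) hU hN).1 (pre_mk_injective J (by
      show pre mk (x ^ N) = pre mk (c' ⟨g, hg⟩ ^ N)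
      rw [map_pow, map_pow, hx, hc', hpow]))
    have h4 : c g = u * s g * u⁻¹ * (s g)⁻¹ := by rw [← hx, hxc, hc']
    exact mul_right_cancel (b := (s g)⁻¹) h4
  -- stabilisation
  let Z : ℕ → Set (Pt k A k) := fun n => {v | pre ψ v = 1 ∧ ∀ h ∈ G n, inc v * s h = s h * inc v}
  let I : ℕ → Ideal A := fun n =>
    { carrier := {a | ∀ v ∈ Z n, v.ofConv a = 0}
      add_mem' := fun ha hb v hv => by rw [map_add, ha v hv, hb v hv, add_zero]
      zero_mem' := fun v _ => map_zero _
      smul_mem' := fun r a ha v hv => by rw [smul_eq_mul, map_mul, ha v hv, mul_zero] }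
  haveI : IsNoetherianRing A := Algebra.FiniteType.isNoetherianRing k A
  obtain ⟨J₀, ⟨⟨n₀, hn₀⟩, hJ₀⟩, hmax⟩ := set_has_maximal_iff_noetherian.2 inferInstance
    (Set.range fun n : {n : ℕ // (n : k) ≠ 0} => I n.1) ⟨_, ⟨⟨1, by simp⟩, rfl⟩⟩
  subst hJ₀
  obtain ⟨u, hu1, hu⟩ := hstep n₀ hn₀
  refine ⟨u, kills_of_pre_eq_one ψ hJ hu1, ?_⟩
  have hall : ∀ n : ℕ, (n : k) ≠ 0 → ∀ h ∈ G n, s'' h = inc u * s h * (inc u)⁻¹ := by
    intro n hn h hh
    let m : ℕ := n₀ * n
    have hm : (m : k) ≠ 0 := by rw [Nat.cast_mul]; exact mul_ne_zero hn₀ hn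
    have hsub0 : G n₀ ⊆ G m := fun g hg => by
      show g ^ (n₀ * n) = 1
      rw [pow_mul, show g ^ n₀ = 1 from hg, one_pow]
    have hZsub : Z m ⊆ Z n₀ := fun v hv => ⟨hv.1, fun g hg => hv.2 g (hsub0 hg)⟩
    have hI : I n₀ = I m := by
      rcases eq_or_lt_of_le (show I n₀ ≤ I m from fun a ha v hv => ha v (hZsub hv)) with h1 | h1
      · exact h1
      · exact absurd h1 (hmax (I m) ⟨⟨m, hm⟩, rfl⟩)
    have hhm : h ∈ G m := by
      show h ^ (n₀ * n) = 1
      rw [mul_comm, pow_mul, show h ^ n = 1 from hh, one_pow]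
    obtain ⟨w, hw1, hw⟩ := hstep m hm
    have hv : w⁻¹ * u ∈ Z n₀ := ⟨by rw [map_mul, map_inv, hw1, hu1, inv_one, one_mul], fun g hg => by
      have e1 := hu g hg
      rw [hw g (hsub0 hg)] at e1
      rw [map_mul, map_inv]
      calc (inc w)⁻¹ * inc u * s g = (inc w)⁻¹ * (inc u * s g * (inc u)⁻¹) * inc u := by group
        _ = _ := by rw [← e1]; group⟩
    -- closedness of the centralizer
    have hvm : ∀ g ∈ G m, inc (w⁻¹ * u) * s g = s g * inc (w⁻¹ * u) := by
      intro g hg
      refine WithConv.ofConv_injective (AlgHom.ext fun a => ?_)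
      let D : A →ₗ[k] K ⊗[k] A :=
        ((s g).ofConv.toLinearMap.rTensor A ∘ₗ (TensorProduct.comm k A A).toLinearMap ∘ₗ CoalgebraStruct.comul) -
          ((s g).ofConv.toLinearMap.rTensor A ∘ₗ CoalgebraStruct.comul)
      have hD : ∀ v : Pt k A k, (inc v * s g).ofConv a - (s g * inc v).ofConv a =
          TensorProduct.rid k K (v.ofConv.toLinearMap.lTensor K (D a)) := by
        intro v
        show (inc v * s g) a - (s g * inc v) a = _
        rw [AlgHom.convMul_apply, AlgHom.convMul_apply]
        simp only [D, LinearMap.sub_apply, LinearMap.comp_apply, LinearEquiv.coe_coe, map_sub]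
        congr 1
        · generalize CoalgebraStruct.comul (R := k) a = z
          induction z using TensorProduct.induction_on with
          | zero => simp
          | add p q hp hq => simp only [map_add, hp, hq]
          | tmul x y => simp [inc, post_apply, Algebra.smul_def]
        · generalize CoalgebraStruct.comul (R := k) a = z
          induction z using TensorProduct.induction_on with
          | zero => simp
          | add p q hp hq => simp only [map_add, hp, hq]
          | tmul x y => simp [inc, post_apply, Algebra.smul_def, mul_comm]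
      let b := Module.Free.chooseBasis k K
      let ev := TensorProduct.equivFinsuppOfBasisLeft b (N := A)
      have hev : ∀ v : Pt k A k, TensorProduct.rid k K (v.ofConv.toLinearMap.lTensor K (D a)) =
          (ev (D a)).sum fun i x => v.ofConv x • b i := by
        intro v
        conv_lhs => rw [← ev.symm_apply_apply (D a), TensorProduct.equivFinsuppOfBasisLeft_symm_apply]
        simp only [Finsupp.sum, map_sum, LinearMap.lTensor_tmul, TensorProduct.rid_tmul]
        rfl
      have hcoef : ∀ i, ev (D a) i ∈ I m := by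
        intro i v hv
        have h0 := hD v
        rw [hv.2 g hg, sub_self, hev] at h0
        have h1 := congrArg (fun z => b.repr z i) h0.symm
        simp only [Finsupp.sum, map_sum, map_smul, Module.Basis.repr_self, Finsupp.smul_single, smul_eq_mul,
          mul_one, Finsupp.finsetSum_apply, Finsupp.single_apply, map_zero, Finsupp.coe_zero, Pi.zero_apply,
          Finset.sum_ite_eq'] at h1
        split_ifs at h1 with hi
        · exact h1
        · rw [Finsupp.notMem_support_iff.1 hi, map_zero]
      refine sub_eq_zero.1 ((hD _).trans ((hev _).trans ?_))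
      refine Finset.sum_eq_zero fun i _ => ?_
      have := hcoef i
      rw [← hI] at this
      show (w⁻¹ * u).ofConv (ev (D a) i) • b i = 0
      rw [this _ hv, zero_smul]
    have e2 := hvm h hhm
    rw [map_mul, map_inv] at e2
    rw [hw h hhm]
    calc inc w * s h * (inc w)⁻¹ = inc w * ((s h * ((inc w)⁻¹ * inc u))) * (inc u)⁻¹ := by group
      _ = _ := by rw [← e2]; group
  refine WithConv.ofConv_injective (AlgHom.ext fun a => sub_eq_zero.1 (eq_zero_of_forall_torsion e fun n h hn hh => ?_))
  have hpost : ∀ r : A →ₐc[k] B, post h.ofConv (toConv (r : A →ₐ[k] B)) = pre r h := fun r => rfl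
  have h1 := congrArg (fun F : Pt k A K => F.ofConv a) (hall n hn h hh)
  have hιh : post h.ofConv (post (Algebra.ofId k B) u) = inc u :=
    WithConv.ofConv_injective (AlgHom.ext fun x => AlgHom.commutes h.ofConv (u.ofConv x))
  rw [map_sub, sub_eq_zero]
  refine h1.trans ?_
  show _ = (post h.ofConv (post (Algebra.ofId k B) u * toConv (r' : A →ₐ[k] B) * (post (Algebra.ofId k B) u)⁻¹)).ofConv a
  rw [map_mul, map_mul, post_inv, hιh, hpost]

end

end Groth.Agent.H66.ConjRat
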