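import Mathlib

/-!
Cocycles of a finite group in a nilpotent group on which the power map by the order is bijective, and the
retraction onto the fixed points.
-/

set_option autoImplicit false
set_option linter.unusedSectionVars false
universe u v

namespace Groth.Agent.H66.ConjRat.AbsCoh

open scoped Pointwise

variable {G : Type v} [Group G]

theorem central_of_pow_central {U : Type u} [Group U] {N : ℕ} (hN : Function.Injective fun x : U => x ^ N)
    {w : U} (h : w ^ N ∈ Subgroup.center U) : w ∈ Subgroup.center U := by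
  refine Subgroup.mem_center_iff.2 fun g => ?_
  have h1 : (g * w * g⁻¹) ^ N = w ^ N := by
    rw [conj_pow, Subgroup.mem_center_iff.1 h g, mul_inv_cancel_right]
  exact mul_inv_eq_iff_eq_mul.1 (hN h1)

theorem pow_bijective_quotient_center {U : Type u} [Group U] {N : ℕ} (hN : Function.Bijective fun x : U => x ^ N) :
    Function.Bijective fun x : U ⧸ Subgroup.center U => x ^ N := by
  refine ⟨fun a b hab => ?_, fun a => ?_⟩
  · obtain ⟨x, rfl⟩ := QuotientGroup.mk_surjective a
    obtain ⟨y, rfl⟩ := QuotientGroup.mk_surjective b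
    have hz : (y ^ N)⁻¹ * x ^ N ∈ Subgroup.center U := by
      rw [← QuotientGroup.eq]
      exact hab.symm
    obtain ⟨w, hw⟩ := hN.2 ((y ^ N)⁻¹ * x ^ N)
    have hw' : w ^ N = (y ^ N)⁻¹ * x ^ N := hw
    have hwc := central_of_pow_central hN.1 (hw' ▸ hz)
    have hxy : x = y * w := by
      refine hN.1 ?_
      show x ^ N = (y * w) ^ N
      rw [Commute.mul_pow (Subgroup.mem_center_iff.1 hwc y), hw', mul_inv_cancel_left]
    refine (QuotientGroup.eq.2 ?_).symm
    rw [hxy, inv_mul_cancel_left]
    exact hwc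
  · obtain ⟨x, rfl⟩ := QuotientGroup.mk_surjective a
    obtain ⟨y, hy⟩ := hN.2 x
    exact ⟨(y : U ⧸ Subgroup.center U), by rw [← hy]; rfl⟩

theorem pow_bijective_center {U : Type u} [Group U] {N : ℕ} (hN : Function.Bijective fun x : U => x ^ N) :
    Function.Bijective fun x : Subgroup.center U => x ^ N := by
  refine ⟨fun a b hab => Subtype.ext (hN.1 (congrArg Subtype.val hab)), fun a => ?_⟩
  obtain ⟨y, hy⟩ := hN.2 (a : U)
  have hy' : y ^ N = a := hy
  exact ⟨⟨y, central_of_pow_central hN.1 (hy' ▸ a.2)⟩, Subtype.ext hy⟩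

theorem map_mem_center {U : Type u} [Group U] (f : MulAut U) {z : U} (hz : z ∈ Subgroup.center U) :
    f z ∈ Subgroup.center U := by
  refine Subgroup.mem_center_iff.2 fun g => f.symm.injective ?_
  rw [map_mul, map_mul, f.symm_apply_apply, Subgroup.mem_center_iff.1 hz]

theorem exists_coboundary_of_comm [Fintype G] {A : Type u} [CommGroup A]
    (hA : Function.Bijective fun x : A => x ^ Fintype.card G) (φ : G →* MulAut A) (c : G → A)
    (hc : ∀ g h, c (g * h) = c g * φ g (c h)) : ∃ u : A, ∀ g, c g = u * (φ g u)⁻¹ := by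
  classical
  obtain ⟨u, hu⟩ := hA.2 (∏ h, c h)
  refine ⟨u, fun g => hA.1 ?_⟩
  have hu' : u ^ Fintype.card G = ∏ h, c h := hu
  have h1 : ∏ h, c h = c g ^ Fintype.card G * ∏ h, φ g (c h) := by
    calc ∏ h, c h = ∏ h, c (g * h) := (Fintype.prod_bijective _ (Group.mulLeft_bijective g) _ _ fun _ => rfl).symm
      _ = _ := by simp only [hc, Finset.prod_mul_distrib, Finset.prod_const, Finset.card_univ]
  show c g ^ Fintype.card G = (u * (φ g u)⁻¹) ^ Fintype.card G
  rw [mul_pow, inv_pow, ← map_pow, hu', map_prod, eq_mul_inv_iff_mul_eq]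
  exact h1.symm

/-- **Vanishing of cohomology.** -/
theorem exists_coboundary [Fintype G] (U : Type u) [Group U] [Group.IsNilpotent U]
    (hU : Function.Bijective fun x : U => x ^ Fintype.card G) (φ : G →* MulAut U) (c : G → U)
    (hc : ∀ g h, c (g * h) = c g * φ g (c h)) : ∃ u : U, ∀ g, c g = u * (φ g u)⁻¹ := by
  classical
  revert φ c
  revert hU
  apply Group.nilpotent_center_quotient_ind (P := fun U _ _ => Function.Bijective (fun x : U => x ^ Fintype.card G) →
    ∀ (φ : G →* MulAut U) (c : G → U), (∀ g h, c (g * h) = c g * φ g (c h)) →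
      ∃ u : U, ∀ g, c g = u * (φ g u)⁻¹) U
  · intro V _ _ _ φ c _
    exact ⟨1, fun g => Subsingleton.elim _ _⟩
  · intro V _ _ ih hV φ c hc
    let Z := Subgroup.center V
    have hZ : ∀ g, Z.map (φ g).toMonoidHom = Z := fun g => le_antisymm
      (Subgroup.map_le_iff_le_comap.2 fun z hz => map_mem_center (φ g) hz)
      (fun z hz => ⟨(φ g).symm z, map_mem_center (φ g).symm hz, (φ g).apply_symm_apply z⟩)
    let φQ : G →* MulAut (V ⧸ Z) :=
      { toFun := fun g => QuotientGroup.congr Z Z (φ g) (hZ g)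
        map_one' := MulEquiv.ext fun a => by
          obtain ⟨x, rfl⟩ := QuotientGroup.mk_surjective a
          simp
        map_mul' := fun g h => MulEquiv.ext fun a => by
          obtain ⟨x, rfl⟩ := QuotientGroup.mk_surjective a
          simp }
    obtain ⟨uQ, huQ⟩ := ih (pow_bijective_quotient_center hV) φQ (fun g => (c g : V ⧸ Z)) fun g h => by
      show ((c (g * h) : V) : V ⧸ Z) = _
      rw [hc]
      rfl
    obtain ⟨u₁, rfl⟩ := QuotientGroup.mk_surjective uQ
    have hd : ∀ g, u₁⁻¹ * c g * φ g u₁ ∈ Z := fun g => by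
      rw [← QuotientGroup.eq_one_iff]
      have h1 : ((c g : V) : V ⧸ Z) = (u₁ : V ⧸ Z) * ((φ g u₁ : V) : V ⧸ Z)⁻¹ := huQ g
      simp only [QuotientGroup.mk_mul, QuotientGroup.mk_inv, h1]
      group
    letI : CommGroup Z :=
      { (inferInstance : Group Z) with mul_comm := fun a b => Subtype.ext (Subgroup.mem_center_iff.1 b.2 a) }
    let d : G → Z := fun g => ⟨_, hd g⟩
    let φZ : G →* MulAut Z :=
      { toFun := fun g =>
          { toFun := fun z => ⟨φ g z, map_mem_center (φ g) z.2⟩
            invFun := fun z => ⟨(φ g).symm z, map_mem_center (φ g).symm z.2⟩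
            left_inv := fun z => Subtype.ext ((φ g).symm_apply_apply _)
            right_inv := fun z => Subtype.ext ((φ g).apply_symm_apply _)
            map_mul' := fun a b => Subtype.ext (map_mul (φ g) _ _) }
        map_one' := MulEquiv.ext fun z => Subtype.ext (by simp)
        map_mul' := fun g h => MulEquiv.ext fun z => Subtype.ext (by simp) }
    obtain ⟨w, hw⟩ := exists_coboundary_of_comm (pow_bijective_center hV) φZ d fun g h => Subtype.ext (by
      show u₁⁻¹ * c (g * h) * φ (g * h) u₁ = u₁⁻¹ * c g * φ g u₁ * φ g (u₁⁻¹ * c h * φ h u₁)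
      rw [hc]
      simp only [map_mul, map_inv, MulAut.mul_apply]
      group)
    refine ⟨u₁ * (w : V), fun g => ?_⟩
    have h1 : u₁⁻¹ * c g * φ g u₁ = (w : V) * (φ g (w : V))⁻¹ := congrArg Subtype.val (hw g)
    have h2 : c g = u₁ * ((w : V) * (φ g (w : V))⁻¹) * (φ g u₁)⁻¹ := by
      rw [← h1]
      group
    rw [h2, map_mul, mul_inv_rev]
    group

/-- One step of the retraction onto the fixed points, for a list of the automorphisms. -/
def step {U : Type u} [Group U] (φ : G → MulAut U) (l : List G) (e : ℕ) (x : U) : U :=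
  x * ((l.map fun g => x⁻¹ * φ g x).prod) ^ e

theorem step_natural {U U' : Type u} [Group U] [Group U'] (φ : G → MulAut U) (φ' : G → MulAut U') (π : U →* U')
    (h : ∀ g x, π (φ g x) = φ' g (π x)) (l : List G) (e : ℕ) (x : U) : π (step φ l e x) = step φ' l e (π x) := by
  simp only [step, map_mul, map_pow, map_list_prod, List.map_map]
  congr 3
  refine List.map_congr_left fun g _ => ?_
  simp [h]

theorem step_eq_self {U : Type u} [Group U] (φ : G → MulAut U) (l : List G) (e : ℕ) {x : U}
    (hx : ∀ g, φ g x = x) : step φ l e x = x := by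
  rw [step, List.prod_eq_one (l := l.map fun g => x⁻¹ * φ g x) fun y hy => ?_, one_pow, mul_one]
  obtain ⟨g, -, rfl⟩ := List.mem_map.1 hy
  rw [hx, inv_mul_cancel]

theorem map_mem_upperCentralSeries {U : Type u} [Group U] (f : MulAut U) :
    ∀ (n : ℕ) {z : U}, z ∈ Subgroup.upperCentralSeries U n → f z ∈ Subgroup.upperCentralSeries U n := by
  intro n
  induction n with
  | zero => intro z hz; simp_all [Subgroup.upperCentralSeries_zero]
  | succ n ih =>
    intro z hz
    rw [Subgroup.mem_upperCentralSeries_succ_iff] at hz ⊢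
    intro y
    have := ih (hz (f.symm y))
    simpa [map_mul, map_inv] using this

/-- **The step improves a point by one layer.** -/
theorem step_mem [Fintype G] {U : Type u} [Group U] (φ : G →* MulAut U) (l : List G)
    (hl : l.Perm (Finset.univ : Finset G).toList) {e q t : ℕ} (he : Fintype.card G * e = q * t + 1)
    (hq : ∀ y : U, y ^ q = 1) (i : ℕ) (x : U)
    (hx : ∀ g, x⁻¹ * φ g x ∈ Subgroup.upperCentralSeries U (i + 1)) :
    ∀ g, (step φ l e x)⁻¹ * φ g (step φ l e x) ∈ Subgroup.upperCentralSeries U i := by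
  classical
  let M := Subgroup.upperCentralSeries U i
  let π : U →* U ⧸ M := QuotientGroup.mk' M
  have hcent : ∀ z ∈ Subgroup.upperCentralSeries U (i + 1), π z ∈ Subgroup.center (U ⧸ M) := by
    intro z hz
    refine Subgroup.mem_center_iff.2 fun b => ?_
    obtain ⟨y, rfl⟩ := QuotientGroup.mk'_surjective M b
    have h1 : π (z * y * z⁻¹ * y⁻¹) = 1 :=
      (QuotientGroup.eq_one_iff _).2 (Subgroup.mem_upperCentralSeries_succ_iff.1 hz y)
    rw [map_mul, map_mul, map_mul, map_inv, map_inv, mul_inv_eq_one, mul_inv_eq_iff_eq_mul] at h1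
    exact h1.symm
  letI : CommGroup (Subgroup.center (U ⧸ M)) :=
    { (inferInstance : Group (Subgroup.center (U ⧸ M))) with
      mul_comm := fun a b => Subtype.ext (Subgroup.mem_center_iff.1 b.2 a) }
  let d : G → U := fun g => x⁻¹ * φ g x
  let dc : G → Subgroup.center (U ⧸ M) := fun g => ⟨π (d g), hcent _ (hx g)⟩
  let P : U := (l.map d).prod
  have hdc : ∀ g h, φ h (d g) = (d h)⁻¹ * d (h * g) := fun g h => by
    simp only [d, map_mul, map_inv, MulAut.mul_apply]
    group
  have hP : ∀ (F : G → Subgroup.center (U ⧸ M)), (l.map F).prod = ∏ g, F g := fun F => by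
    rw [(hl.map F).prod_eq, Finset.prod_map_toList]
  have hPd : π P = ((∏ g, dc g : Subgroup.center (U ⧸ M)) : U ⧸ M) := by
    rw [← hP, ← Subgroup.coe_subtype, map_list_prod, map_list_prod, List.map_map, List.map_map]
    rfl
  intro h
  show (x * P ^ e)⁻¹ * φ h (x * P ^ e) ∈ M
  rw [← QuotientGroup.eq_one_iff]
  show π ((x * P ^ e)⁻¹ * φ h (x * P ^ e)) = 1
  have h1 : π (φ h P) = (((dc h)⁻¹ ^ Fintype.card G * ∏ g, dc g : Subgroup.center (U ⧸ M)) : U ⧸ M) := by
    have h2 : (∏ g, (dc h)⁻¹ * dc (h * g)) = (dc h)⁻¹ ^ Fintype.card G * ∏ g, dc g := by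
      rw [Finset.prod_mul_distrib, Finset.prod_const, Finset.card_univ]
      congr 1
      exact Fintype.prod_bijective _ (Group.mulLeft_bijective h) _ _ fun _ => rfl
    rw [← h2, ← hP, ← Subgroup.coe_subtype, map_list_prod, map_list_prod, map_list_prod, List.map_map, List.map_map, List.map_map]
    congr 1
    refine List.map_congr_left fun g _ => ?_
    show π (φ h (d g)) = π (d h) ⁻¹ * π (d (h * g))
    rw [hdc, map_mul, map_inv]
  have hx' : π (φ h x) = π x * π (d h) := by
    rw [← map_mul]
    simp [d]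
  rw [map_mul, map_inv, map_mul, map_mul, map_mul, map_pow, map_pow, map_pow, h1, hPd, hx']
  have hd1 : π (d h) = ((dc h : Subgroup.center (U ⧸ M)) : U ⧸ M) := rfl
  rw [hd1, mul_inv_rev, mul_assoc, mul_assoc, inv_mul_cancel_left]
  rw [← Subgroup.coe_pow, ← Subgroup.coe_pow, ← Subgroup.coe_inv, ← Subgroup.coe_mul, ← Subgroup.coe_mul]
  have h3 : (dc h) ^ q = 1 := Subtype.ext (by
    rw [Subgroup.coe_pow]
    show π (d h) ^ q = 1
    rw [← map_pow, hq, map_one])
  have h4 : dc h * ((dc h)⁻¹ ^ Fintype.card G) ^ e = 1 := by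
    rw [← pow_mul, inv_pow, he, pow_succ, pow_mul, h3, one_pow, one_mul, mul_inv_cancel]
  rw [OneMemClass.coe_eq_one, mul_pow, ← mul_assoc (dc h), h4, one_mul, inv_mul_cancel]

/-- Iterating the step lands in the fixed points. -/
theorem iterate_step_fixed [Fintype G] {U : Type u} [Group U] (φ : G →* MulAut U) (l : List G)
    (hl : l.Perm (Finset.univ : Finset G).toList) {e q t : ℕ} (he : Fintype.card G * e = q * t + 1)
    (hq : ∀ y : U, y ^ q = 1) {n : ℕ} (hn : Subgroup.upperCentralSeries U n = ⊤) (x : U) (g : G) :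
    φ g ((step φ l e)^[n] x) = (step φ l e)^[n] x := by
  have key : ∀ i, ∀ x : U, (∀ g, x⁻¹ * φ g x ∈ Subgroup.upperCentralSeries U i) →
      ∀ g, φ g ((step φ l e)^[i] x) = (step φ l e)^[i] x := by
    intro i
    induction i with
    | zero =>
      intro x hx g
      have := hx g
      rw [Subgroup.upperCentralSeries_zero, Subgroup.mem_bot, inv_mul_eq_one] at this
      exact this.symm
    | succ i ih =>
      intro x hx g
      rw [Function.iterate_succ_apply]
      exact ih _ (step_mem φ l hl he hq i x hx) g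
  exact key n x (fun g => by rw [hn]; trivial) g

end Groth.Agent.H66.ConjRat.AbsCoh
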