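import Groth.Agent.H66.ConjRat.Kernel
import Mathlib

/-! Galois cohomology of connected unipotent groups over a perfect field of positive characteristic. -/

set_option autoImplicit false
set_option linter.unusedSectionVars false
set_option linter.style.haveILetI false
universe u

namespace Groth.Agent.H66.ConjRat.H1

open TensorProduct WithConv Groth.Agent.H66.MultExt Groth.Agent.H66.Vec Groth.Agent.H66.ConjRat.GalPts
open Groth.Agent.H66.ConjRat.Kernel

noncomputable section

variable {k : Type u} [Field k] [PerfectField k] {K : Type u} [Field K] [Algebra k K] [IsAlgClosed K]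
  [Algebra.IsAlgebraic k K]

/-- A continuous additive cocycle is a coboundary. -/
theorem exists_additive_coboundary (L : IntermediateField k K) [FiniteDimensional k L] [Normal k L]
    (a : (K ≃ₐ[k] K) → K) (ha : ∀ σ τ, a (σ * τ) = a σ + σ (a τ))
    (hL : ∀ σ : K ≃ₐ[k] K, (∀ x ∈ L, σ x = x) → a σ = 0) : ∃ s : K, ∀ σ, a σ = σ s - s := by
  classical
  haveI : IsAlgClosure k K := ⟨‹_›, ‹_›⟩
  haveI : Normal k K := IsAlgClosure.normal k K
  haveI : IsGalois k L := IsGalois.mk
  obtain ⟨θ, hθ⟩ : ∃ θ : L, Algebra.trace k L θ = 1 := by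
    obtain ⟨x, hx⟩ : ∃ x, Algebra.trace k L x ≠ 0 := by
      by_contra! h
      exact Algebra.trace_ne_zero k L (LinearMap.ext h)
    exact ⟨(Algebra.trace k L x)⁻¹ • x, by rw [map_smul, smul_eq_mul, inv_mul_cancel₀ hx]⟩
  let res : (K ≃ₐ[k] K) →* (L ≃ₐ[k] L) := AlgEquiv.restrictNormalHom L
  have hres : ∀ (σ : K ≃ₐ[k] K) (x : L), σ (x : K) = (res σ x : K) := fun σ x =>
    (AlgEquiv.restrictNormal_commutes σ L x).symm
  let lift : (L ≃ₐ[k] L) → (K ≃ₐ[k] K) := fun g => g.liftNormal K
  have hlift : ∀ g, res (lift g) = g := fun g => g.restrict_liftNormal K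
  have hdep : ∀ σ τ, res σ = res τ → a σ = a τ := by
    intro σ τ h
    have h1 : a (σ⁻¹ * τ) = 0 := hL _ fun x hx => by
      have h2 : res (σ⁻¹ * τ) = 1 := by rw [map_mul, map_inv, h, inv_mul_cancel]
      have := hres (σ⁻¹ * τ) ⟨x, hx⟩
      rw [h2] at this
      exact this
    have := ha σ (σ⁻¹ * τ)
    rw [mul_inv_cancel_left, h1, map_zero, add_zero] at this
    exact this.symm
  let s : K := - ∑ g : L ≃ₐ[k] L, a (lift g) * (g θ : K)
  refine ⟨s, fun σ => ?_⟩
  have hsum : ∑ g : L ≃ₐ[k] L, (g θ : K) = 1 := by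
    have h := trace_eq_sum_automorphisms (K := k) (L := L) θ
    rw [hθ, map_one] at h
    have h' := congrArg (fun z : L => (z : K)) h
    simp only [OneMemClass.coe_one, AddSubmonoidClass.coe_finsetSum] at h'
    exact h'.symm
  have hterm : ∀ g : L ≃ₐ[k] L, σ (a (lift g) * (g θ : K)) =
      a (lift (res σ * g)) * ((res σ * g) θ : K) - a σ * ((res σ * g) θ : K) := by
    intro g
    have h1 : a (lift (res σ * g)) = a σ + σ (a (lift g)) := by
      rw [← ha]
      exact hdep _ _ (by rw [hlift, map_mul, hlift])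
    rw [map_mul, hres σ (g θ), ← sub_mul, h1, add_sub_cancel_left]
    rfl
  have h2 : σ s = s + a σ := by
    simp only [s, map_neg, map_sum, hterm]
    rw [Finset.sum_sub_distrib, Fintype.sum_bijective (fun g => res σ * g) (Group.mulLeft_bijective (res σ))
      (fun g => a (lift (res σ * g)) * ((res σ * g) θ : K)) (fun g => a (lift g) * (g θ : K)) fun g => rfl,
      Fintype.sum_bijective (fun g => res σ * g) (Group.mulLeft_bijective (res σ))
      (fun g => a σ * ((res σ * g) θ : K)) (fun g => a σ * (g θ : K)) fun g => rfl, ← Finset.mul_sum, hsum]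
    ring
  rw [h2]
  ring

variable {R₀ : Type u} [CommRing R₀] [HopfAlgebra k R₀] [Algebra.FiniteType k R₀] {p : ℕ} [Fact p.Prime] [CharP k p]

/-- Points with values in a finite normal subextension. -/
theorem exists_finite_normal (L : IntermediateField k K) [FiniteDimensional k L] (z : R₀ →ₐ[k] K) :
    ∃ M : IntermediateField k K, FiniteDimensional k M ∧ Normal k M ∧ L ≤ M ∧ ∀ a, z a ∈ M := by
  classical
  haveI : IsAlgClosure k K := ⟨‹_›, ‹_›⟩
  haveI : Normal k K := IsAlgClosure.normal k K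
  obtain ⟨t, ht⟩ := Algebra.FiniteType.out (R := k) (A := R₀)
  let L₁ : IntermediateField k K := IntermediateField.adjoin k (z '' (t : Set R₀))
  haveI : Finite ↥(z '' (t : Set R₀)) := (t.finite_toSet.image z).to_subtype
  haveI : FiniteDimensional k L₁ := IntermediateField.finiteDimensional_adjoin fun x _ => Algebra.IsIntegral.isIntegral x
  let M := IntermediateField.normalClosure k ↥(L ⊔ L₁) K
  refine ⟨M, inferInstance, inferInstance, le_trans le_sup_left (IntermediateField.le_normalClosure _), fun a => ?_⟩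
  have ha : a ∈ Algebra.adjoin k (t : Set R₀) := ht ▸ Algebra.mem_top
  refine (le_trans le_sup_right (IntermediateField.le_normalClosure (L ⊔ L₁)) : L₁ ≤ M) ?_
  induction ha using Algebra.adjoin_induction with
  | mem y hy => exact IntermediateField.subset_adjoin k _ ⟨y, hy, rfl⟩
  | algebraMap s => rw [AlgHom.commutes]; exact L₁.algebraMap_mem s
  | add y z _ _ hy hz => rw [map_add]; exact add_mem hy hz
  | mul y z _ _ hy hz => rw [map_mul]; exact mul_mem hy hz

/-- Conjugate of a point. -/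
abbrev gal (σ : K ≃ₐ[k] K) : Pt k R₀ K →* Pt k R₀ K := post (σ : K →ₐ[k] K)

theorem gal_mul (σ τ : K ≃ₐ[k] K) (x : Pt k R₀ K) : gal (σ * τ) x = gal σ (gal τ x) :=
  WithConv.ofConv_injective (AlgHom.ext fun _ => rfl)

include p in
/-- **Vanishing of the cohomology.** -/
theorem exists_coboundary (hU : HopfRep.IsUnipotent k R₀) (I : Ideal R₀) :
    ∀ [I.IsHopfIdeal k] [IsReduced (R₀ ⧸ I)], (∀ e : R₀, e * e - e ∈ I → e ∈ I ∨ 1 - e ∈ I) →
      ∀ (L : IntermediateField k K) [FiniteDimensional k L] [Normal k L] (c : (K ≃ₐ[k] K) → Pt k R₀ K),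
        (∀ σ, ∀ a ∈ I, (c σ).ofConv a = 0) → (∀ σ τ, c (σ * τ) = c σ * gal σ (c τ)) →
        (∀ σ : K ≃ₐ[k] K, (∀ x ∈ L, σ x = x) → c σ = 1) →
        ∃ z : Pt k R₀ K, (∀ a ∈ I, z.ofConv a = 0) ∧ ∀ σ, c σ = z⁻¹ * gal σ z := by
  classical
  haveI : IsNoetherianRing R₀ := Algebra.FiniteType.isNoetherianRing k R₀
  induction I using WellFoundedGT.induction with
  | ind I ih =>
    intro _ _ hconn L _ _ c hcI hc hcL
    let mk : R₀ →ₐc[k] R₀ ⧸ I := Bialgebra.Quotient.mkBialgHom (R := k) I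
    have hmk : Function.Surjective mk := Ideal.Quotient.mk_surjective
    haveI : Algebra.FiniteType k (R₀ ⧸ I) := Algebra.FiniteType.of_surjective (mk : R₀ →ₐ[k] R₀ ⧸ I) hmk
    have hU₁ : HopfRep.IsUnipotent k (R₀ ⧸ I) := H66.ExactSeq.isUnipotent_of_surjective mk hmk hU
    have hconn₁ : ∀ e : R₀ ⧸ I, IsIdempotentElem e → e = 0 ∨ e = 1 := by
      intro e he
      obtain ⟨e, rfl⟩ := Ideal.Quotient.mk_surjective e
      have h : e * e - e ∈ I := by
        rw [← Ideal.Quotient.eq_zero_iff_mem, map_sub, map_mul, sub_eq_zero]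
        exact he
      rcases hconn e h with h0 | h0
      · exact Or.inl (Ideal.Quotient.eq_zero_iff_mem.2 h0)
      · right
        have := Ideal.Quotient.eq_zero_iff_mem.2 h0
        rw [map_sub, map_one, sub_eq_zero] at this
        exact this.symm
    have hlift : ∀ x : Pt k R₀ K, (∀ a ∈ I, x.ofConv a = 0) → ∃ x' : Pt k (R₀ ⧸ I) K, pre mk x' = x := fun x hx =>
      ⟨toConv (Ideal.Quotient.liftₐ I x.ofConv hx), WithConv.ofConv_injective (AlgHom.ext fun _ => rfl)⟩
    by_cases htriv : ∃ b : R₀ ⧸ I, b ≠ algebraMap k _ (CoalgebraStruct.counit (R := k) b)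
    swap
    · push Not at htriv
      have hone : ∀ x : Pt k R₀ K, (∀ a ∈ I, x.ofConv a = 0) → x = 1 := fun x hx => by
        obtain ⟨x', rfl⟩ := hlift x hx
        rw [show x' = 1 from WithConv.ofConv_injective (AlgHom.ext fun b => by
          conv_lhs => rw [htriv b]
          exact x'.ofConv.commutes _), map_one]
      refine ⟨1, fun a ha => ?_, fun σ => by rw [hone _ (hcI σ), map_one, inv_one, one_mul]⟩
      show algebraMap k K (CoalgebraStruct.counit (R := k) a) = 0
      have h1 := CoalgHomClass.counit_comp_apply (R := k) mk a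
      rw [show mk a = 0 from Ideal.Quotient.eq_zero_iff_mem.2 ha, map_zero] at h1
      rw [← h1, map_zero]
    obtain ⟨v, hv, hv0⟩ := Conj.exists_add_ne_zero hU₁ htriv
    obtain ⟨n, f, hf, hsurj, hzero⟩ := exists_surjective_family (k := k) (K := K) (p := p) hconn₁
    -- the additive components
    let c₁ : (K ≃ₐ[k] K) → Pt k (R₀ ⧸ I) K := fun σ => toConv (Ideal.Quotient.liftₐ I (c σ).ofConv (hcI σ))
    have hc₁pre : ∀ σ, pre mk (c₁ σ) = c σ := fun σ => WithConv.ofConv_injective (AlgHom.ext fun _ => rfl)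
    have hpre : Function.Injective (pre mk : Pt k (R₀ ⧸ I) K → Pt k R₀ K) := fun F G h =>
      WithConv.ofConv_injective (Ideal.Quotient.algHom_ext k (congrArg WithConv.ofConv h))
    have hpg : ∀ σ (x : Pt k (R₀ ⧸ I) K), pre mk (gal σ x) = gal σ (pre mk x) := fun σ x =>
      WithConv.ofConv_injective (AlgHom.ext fun _ => rfl)
    have hc₁ : ∀ σ τ, c₁ (σ * τ) = c₁ σ * gal σ (c₁ τ) := fun σ τ => hpre (by
      rw [map_mul, hpg, hc₁pre, hc₁pre, hc₁pre, hc])
    choose s hs using fun i => exists_additive_coboundary L (fun σ => (c₁ σ).ofConv (f i))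
      (fun σ τ => by
        show (c₁ (σ * τ)).ofConv (f i) = _
        rw [hc₁, mul_prim _ _ (hf i)]
        rfl)
      (fun σ hσ => by
        show (c₁ σ).ofConv (f i) = 0
        rw [show c₁ σ = 1 from hpre (by rw [hc₁pre, hcL σ hσ, map_one]), one_prim (hf i)])
    obtain ⟨z, hz⟩ := hsurj s
    let z₀ : Pt k R₀ K := pre mk (toConv z)
    let c' : (K ≃ₐ[k] K) → Pt k R₀ K := fun σ => z₀ * c σ * (gal σ z₀)⁻¹
    -- the kernel as a subset of the points
    let S : Set (R₀ →ₐ[k] K) := (fun y => y.comp (mk : R₀ →ₐ[k] R₀ ⧸ I)) '' primZero k (R₀ ⧸ I) K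
    have hS : IsStable S := by
      rintro σ _ ⟨y, hy, rfl⟩
      exact ⟨_, isStable_primZero σ y hy, rfl⟩
    have hSmem : ∀ x : Pt k R₀ K, x.ofConv ∈ S ↔ ∃ y : Pt k (R₀ ⧸ I) K, y.ofConv ∈ primZero k (R₀ ⧸ I) K ∧ pre mk y = x := by
      intro x
      constructor
      · rintro ⟨y, hy, hyx⟩
        exact ⟨toConv y, hy, WithConv.ofConv_injective hyx⟩
      · rintro ⟨y, hy, rfl⟩
        exact ⟨y.ofConv, hy, rfl⟩
    haveI hI' := GalPts.isHopfIdeal_vanish hS (show (1 : Pt k R₀ K).ofConv ∈ S from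
        (hSmem 1).2 ⟨1, fun a ha => one_prim ha, map_one _⟩)
      (fun x hx y hy => by
        obtain ⟨x', hx', hxe⟩ := (hSmem (toConv x)).1 hx
        obtain ⟨y', hy', hye⟩ := (hSmem (toConv y)).1 hy
        exact (hSmem _).2 ⟨x' * y', fun a ha => by rw [mul_prim _ _ ha, hx' a ha, hy' a ha, add_zero],
          by rw [map_mul, hxe, hye]⟩)
      (fun x hx => by
        obtain ⟨x', hx', hxe⟩ := (hSmem (toConv x)).1 hx
        exact (hSmem _).2 ⟨x'⁻¹, fun a ha => by rw [inv_prim _ ha, hx' a ha, neg_zero], by rw [map_inv, hxe]⟩)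
    have hI'mem : ∀ a, a ∈ vanish S ↔ mk a ∈ vanish (primZero k (R₀ ⧸ I) K) := fun a => by
      simp only [mem_vanish, S, Set.forall_mem_image]
      rfl
    haveI : IsReduced (R₀ ⧸ vanish S) := ⟨fun b ⟨m, hb⟩ => by
      obtain ⟨a, rfl⟩ := Ideal.Quotient.mk_surjective b
      rw [← map_pow, Ideal.Quotient.eq_zero_iff_mem] at hb
      refine Ideal.Quotient.eq_zero_iff_mem.2 (mem_vanish.2 fun y hy => ?_)
      have := mem_vanish.1 hb y hy
      rw [map_pow] at this
      exact eq_zero_of_pow_eq_zero this⟩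
    have hconn' : ∀ e : R₀, e * e - e ∈ vanish S → e ∈ vanish S ∨ 1 - e ∈ vanish S := fun e he => by
      rw [hI'mem, map_sub, map_mul] at he
      rw [hI'mem, hI'mem, map_sub, map_one]
      exact kernel_connected (k := k) (p := p) hconn₁ (mk e) he
    have hlt : I < vanish S := by
      refine lt_of_le_of_ne (fun a ha => ?_) fun heq => hv0 ?_
      · rw [hI'mem, show mk a = 0 from Ideal.Quotient.eq_zero_iff_mem.2 ha]
        exact zero_mem _
      · refine eq_zero_of_forall_pt (k := k) (K := K) fun y => ?_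
        obtain ⟨a, rfl⟩ := hmk v
        have h1 : a ∈ vanish S := (hI'mem a).2 (mem_vanish.2 fun w hw => hw _ (mem_primSub.2 hv))
        rw [← heq] at h1
        rw [show mk a = 0 from Ideal.Quotient.eq_zero_iff_mem.2 h1, map_zero]
    -- closedness
    have hclosed : ∀ x : Pt k R₀ K, (∀ a ∈ I, x.ofConv a = 0) → (∀ y : Pt k (R₀ ⧸ I) K, pre mk y = x →
        ∀ i, y.ofConv (f i) = 0) → ∀ a ∈ vanish S, x.ofConv a = 0 := by
      intro x hx h a ha
      obtain ⟨y, rfl⟩ := hlift x hx
      exact mem_vanish.1 ((hI'mem a).1 ha) y.ofConv (hzero y.ofConv (h y rfl))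
    obtain ⟨M, hMfin, hMn, hLM, hzM⟩ := exists_finite_normal L z₀.ofConv
    haveI := hMfin
    haveI := hMn
    obtain ⟨w, hw, hwc⟩ := ih (vanish S) hlt hconn' M c'
      (fun σ => hclosed _ (fun a ha => by
          show (z₀ * c σ * (gal σ z₀)⁻¹).ofConv a = 0
          rw [← hc₁pre, show gal σ z₀ = pre mk (gal σ (toConv z)) from (hpg _ _).symm, ← map_inv, ← map_mul,
            ← map_mul, show (pre mk (toConv z * c₁ σ * (gal σ (toConv z))⁻¹)).ofConv a =
              (toConv z * c₁ σ * (gal σ (toConv z))⁻¹).ofConv (mk a) from rfl,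
            show mk a = 0 from Ideal.Quotient.eq_zero_iff_mem.2 ha, map_zero])
        fun y hy i => by
          have hy' : y = toConv z * c₁ σ * (gal σ (toConv z))⁻¹ := hpre (by
            rw [hy, map_mul, map_mul, map_inv, hpg, hc₁pre])
          rw [hy', mul_prim _ _ (hf i), mul_prim _ _ (hf i), inv_prim _ (hf i), hs i σ]
          show z (f i) + (σ (s i) - s i) + -(σ (z (f i))) = 0
          rw [hz]
          ring)
      (fun σ τ => by
        show z₀ * c (σ * τ) * (gal (σ * τ) z₀)⁻¹ = z₀ * c σ * (gal σ z₀)⁻¹ * gal σ (z₀ * c τ * (gal τ z₀)⁻¹)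
        rw [hc, map_mul, map_mul, map_inv, gal_mul]
        group)
      (fun σ hσ => by
        show z₀ * c σ * (gal σ z₀)⁻¹ = 1
        rw [hcL σ fun x hx => hσ x (hLM hx), show gal σ z₀ = z₀ from
          WithConv.ofConv_injective (AlgHom.ext fun a => hσ _ (hzM a))]
        group)
    refine ⟨w * z₀, fun a ha => ?_, fun σ => ?_⟩
    · obtain ⟨w', rfl⟩ := hlift w fun b hb => hw b (le_of_lt hlt hb)
      rw [← map_mul, show (pre mk (w' * toConv z)).ofConv a = (w' * toConv z).ofConv (mk a) from rfl,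
        show mk a = 0 from Ideal.Quotient.eq_zero_iff_mem.2 ha, map_zero]
    · have h1 : z₀ * c σ * (gal σ z₀)⁻¹ = w⁻¹ * gal σ w := hwc σ
      rw [map_mul, mul_inv_rev]
      calc c σ = z₀⁻¹ * (z₀ * c σ * (gal σ z₀)⁻¹) * gal σ z₀ := by group
        _ = _ := by rw [h1]; group

end

end Groth.Agent.H66.ConjRat.H1
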