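import Groth.Agent.H66.ConjRat.CommCase
import Groth.Agent.H66.ConjRat.AbsCoh
import Groth.Agent.H66.ConjRat.H1
import Mathlib

/-!
Conjugacy by a rational point of two retractions when the kernel is a connected unipotent group over a
perfect field.
-/

set_option autoImplicit false
set_option linter.unusedSectionVars false
set_option linter.style.haveILetI false
universe u

namespace Groth.Agent.H66.ConjRat

open TensorProduct WithConv Groth.Agent.H66.MultExt

noncomputable section

namespace Conn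

variable {k : Type u} [Field k] {A B : Type u} [CommRing A] [HopfAlgebra k A] [CommRing B] [HopfAlgebra k B]
  (ψ : B →ₐc[k] A) (J : Ideal A) [J.IsHopfIdeal k]
  (hJ : J = Ideal.map (ψ : B →+* A) (RingHom.ker (Bialgebra.counitAlgHom k B))) {T : Type u} [CommRing T] [Algebra k T]

local notation "mk'" => (Bialgebra.Quotient.mkBialgHom (R := k) J : A →ₐc[k] A ⧸ J)

include hJ in
theorem pre_psi_conj (g : Pt k A T) (x : Pt k (A ⧸ J) T) : pre ψ (g * pre mk' x * g⁻¹) = 1 := by
  rw [map_mul, map_mul, map_inv, pre_psi_pre_mk ψ J hJ, mul_one, mul_inv_cancel]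

/-- Conjugation of the kernel by a point. -/
def conjFun (g : Pt k A T) (x : Pt k (A ⧸ J) T) : Pt k (A ⧸ J) T :=
  Classical.choose (exists_pre_mk ψ J hJ (pre_psi_conj ψ J hJ g x))

theorem pre_mk_conjFun (g : Pt k A T) (x : Pt k (A ⧸ J) T) :
    pre mk' (conjFun ψ J hJ g x) = g * pre mk' x * g⁻¹ :=
  Classical.choose_spec (exists_pre_mk ψ J hJ (pre_psi_conj ψ J hJ g x))

/-- Conjugation as a homomorphism. -/
def conjHom : Pt k A T →* MulAut (Pt k (A ⧸ J) T) where
  toFun g :=
    { toFun := conjFun ψ J hJ g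
      invFun := conjFun ψ J hJ g⁻¹
      left_inv := fun x => pre_mk_injective J (by rw [pre_mk_conjFun, pre_mk_conjFun]; group)
      right_inv := fun x => pre_mk_injective J (by rw [pre_mk_conjFun, pre_mk_conjFun]; group)
      map_mul' := fun x y => pre_mk_injective J (by
        rw [pre_mk_conjFun, map_mul, map_mul, pre_mk_conjFun, pre_mk_conjFun]; group) }
  map_one' := MulEquiv.ext fun x => pre_mk_injective J (by
    show pre mk' (conjFun ψ J hJ 1 x) = pre mk' x
    rw [pre_mk_conjFun]; group)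
  map_mul' g h := MulEquiv.ext fun x => pre_mk_injective J (by
    show pre mk' (conjFun ψ J hJ (g * h) x) = pre mk' (conjFun ψ J hJ g (conjFun ψ J hJ h x))
    rw [pre_mk_conjFun, pre_mk_conjFun, pre_mk_conjFun]; group)

theorem pre_mk_conjHom (g : Pt k A T) (x : Pt k (A ⧸ J) T) :
    pre mk' (conjHom ψ J hJ g x) = g * pre mk' x * g⁻¹ := pre_mk_conjFun ψ J hJ g x

theorem post_conjHom {T' : Type u} [CommRing T'] [Algebra k T'] (π : T →ₐ[k] T') (g : Pt k A T) (x : Pt k (A ⧸ J) T) :
    post π (conjHom ψ J hJ g x) = conjHom ψ J hJ (post π g) (post π x) := by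
  apply pre_mk_injective J
  rw [pre_mk_conjHom, show pre mk' (post π (conjHom ψ J hJ g x)) = post π (pre mk' (conjHom ψ J hJ g x)) from rfl,
    pre_mk_conjHom, map_mul, map_mul, map_inv]
  rfl

end Conn

open GalPts in
theorem natCast_card_ne_zero {k : Type u} [Field k] {P : Type u} [Group P] {n : ℕ} (hn : (n : k) ≠ 0)
    (H : Subgroup P) [Fintype H] (hH : ∀ x : H, (x : P) ^ n = 1) : (Fintype.card H : k) ≠ 0 := by
  intro h0
  obtain ⟨p, hp⟩ := CharP.exists k
  rcases CharP.char_is_prime_or_zero k p with hpp | rfl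
  · haveI := Fact.mk hpp
    obtain ⟨x, hx⟩ := exists_prime_orderOf_dvd_card p ((CharP.cast_eq_zero_iff k p _).1 h0)
    exact hn ((CharP.cast_eq_zero_iff k p n).2 (hx ▸ orderOf_dvd_of_pow_eq_one (Subtype.ext (hH x))))
  · haveI : CharZero k := CharP.charP_to_charZero k
    exact Fintype.card_ne_zero (Nat.cast_eq_zero.1 h0)

/-- The exponent of the points of a unipotent group in positive characteristic. -/
theorem exists_exponent {k : Type u} [Field k] {R : Type u} [CommRing R] [HopfAlgebra k R] (p : ℕ) [Fact p.Prime]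
    [CharP k p] [Algebra.FiniteType k R] (hU : HopfRep.IsUnipotent k R) :
    ∃ r : ℕ, ∀ g : Pt k R k, g ^ p ^ r = 1 := by
  open Groth.Agent.H66.Unip Groth.Agent.H66.UnipPow in
  haveI : Nontrivial R := (Bialgebra.counitAlgHom k R).toRingHom.domain_nontrivial
  have hinj : Function.Injective (algebraMap k (Module.End k R)) := by
    intro c c' h
    have h1 := congrArg (fun f : Module.End k R => CoalgebraStruct.counit (R := k) (f (1 : R))) h
    simpa [Module.algebraMap_end_apply] using h1
  haveI := charP_of_injective_algebraMap hinj p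
  obtain ⟨t, ht⟩ := Algebra.FiniteType.out (R := k) (A := R)
  choose N hN using fun a : R => H66.Unip.mem_fil_exists hU a
  refine ⟨t.sup N, fun g => WithConv.ofConv_injective (AlgHom.ext_of_adjoin_eq_top ht fun a ha => ?_)⟩
  have hle : N a ≤ p ^ t.sup N :=
    (Finset.le_sup ha).trans (Nat.lt_pow_self (Fact.out : p.Prime).one_lt).le
  have hz : ((H66.UnipPow.T g - 1) ^ p ^ t.sup N) a = 0 :=
    H66.UnipPow.sub_one_pow_eq_zero g _ (H66.Unip.fil_mono hle (hN a))
  rw [sub_pow_char_pow_of_commute p _ (Commute.one_right (H66.UnipPow.T g)), one_pow, LinearMap.sub_apply,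
    sub_eq_zero, Module.End.one_apply, ← H66.UnipPow.T_pow] at hz
  rw [← H66.UnipPow.counit_T, hz]
  simp

variable {k : Type u} [Field k] {A B : Type u} [CommRing A] [HopfAlgebra k A] [CommRing B] [HopfAlgebra k B]
  [Algebra.FiniteType k A] [Algebra.FiniteType k B]

/-- The fixed points of the torsion in the kernel have no cohomology; so a cocycle has a rational solution. -/
theorem exists_rational_coboundary [PerfectField k] {K : Type u} [Field K] [Algebra k K] [IsAlgClosed K]
    [Algebra.IsAlgebraic k K] (ψ : B →ₐc[k] A) (J : Ideal A) [J.IsHopfIdeal k]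
    (hJ : J = Ideal.map (ψ : B →+* A) (RingHom.ker (Bialgebra.counitAlgHom k B)))
    (hU : HopfRep.IsUnipotent k (A ⧸ J)) (hconn : ∀ e : A ⧸ J, IsIdempotentElem e → e = 0 ∨ e = 1)
    {H : Type u} [Group H] [Fintype H] (s : H →* Pt k A K) (hN : (Fintype.card H : k) ≠ 0)
    (hσH : ∀ (σ : K ≃ₐ[k] K) (h : H), ∃ h', s h' = post (σ : K →ₐ[k] K) (s h))
    (c : H → Pt k (A ⧸ J) K) (hc : ∀ g h, c (g * h) = c g * Conn.conjHom ψ J hJ (s g) (c h))
    (hcσ : ∀ (σ : K ≃ₐ[k] K) (h h' : H), s h' = post (σ : K →ₐ[k] K) (s h) → post (σ : K →ₐ[k] K) (c h) = c h') :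
    ∃ u : Pt k (A ⧸ J) k, ∀ h, c h = post (Algebra.ofId k K) u *
      (Conn.conjHom ψ J hJ (s h) (post (Algebra.ofId k K) u))⁻¹ := by
  classical
  haveI : IsAlgClosure k K := ⟨‹_›, ‹_›⟩
  haveI : Normal k K := IsAlgClosure.normal k K
  let mk : A →ₐc[k] A ⧸ J := Bialgebra.Quotient.mkBialgHom (R := k) J
  haveI : Algebra.FiniteType k (A ⧸ J) :=
    Algebra.FiniteType.of_surjective (mk : A →ₐ[k] A ⧸ J) Ideal.Quotient.mk_surjective
  haveI hnil : Group.IsNilpotent (Pt k (A ⧸ J) K) := by
    haveI : Group.IsNilpotent (Pt K (K ⊗[k] (A ⧸ J)) K) :=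
      H66.UnipPoints.isNilpotent_points (H66.UnipBC.isUnipotent_baseChange hU)
    exact nilpotent_of_mulEquiv (bcPt (k := k) (K := K) (X := A ⧸ J)).symm
  have hpow := pow_bijective_ext (K := K) hU hN
  let φ : H →* MulAut (Pt k (A ⧸ J) K) := (Conn.conjHom ψ J hJ).comp s
  obtain ⟨u₀, hu₀⟩ := AbsCoh.exists_coboundary (Pt k (A ⧸ J) K) hpow φ c hc
  have hσφ : ∀ (σ : K ≃ₐ[k] K) (h : H), ∃ h', ∀ x, H1.gal σ (φ h x) = φ h' (H1.gal σ x) := by
    intro σ h
    obtain ⟨h', hh'⟩ := hσH σ h
    refine ⟨h', fun x => ?_⟩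
    show post (σ : K →ₐ[k] K) (Conn.conjHom ψ J hJ (s h) x) = Conn.conjHom ψ J hJ (s h') _
    rw [Conn.post_conjHom, hh']
  have hfix' : ∀ (σ : K ≃ₐ[k] K) x, (∀ h, φ h x = x) → ∀ h, φ h (H1.gal σ x) = H1.gal σ x := by
    intro σ x hx h
    obtain ⟨h', hh'⟩ := hσH σ⁻¹ h
    have h1 := Conn.post_conjHom ψ J hJ (σ : K →ₐ[k] K) (s h') x
    rw [show Conn.conjHom ψ J hJ (s h') x = x from hx h', show post (σ : K →ₐ[k] K) (s h') = s h by
      rw [hh']
      exact WithConv.ofConv_injective (AlgHom.ext fun a => by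
        show σ (σ⁻¹ ((s h).ofConv a)) = _
        rw [← AlgEquiv.mul_apply, mul_inv_cancel]; rfl)] at h1
    exact h1.symm
  let d : (K ≃ₐ[k] K) → Pt k (A ⧸ J) K := fun σ => u₀⁻¹ * H1.gal σ u₀
  have hd : ∀ σ h, φ h (d σ) = d σ := by
    intro σ h
    obtain ⟨h', hh'⟩ := hσH σ⁻¹ h
    have hsh : s h = post (σ : K →ₐ[k] K) (s h') := by
      rw [hh']
      exact WithConv.ofConv_injective (AlgHom.ext fun a => by
        show _ = σ (σ⁻¹ ((s h).ofConv a))
        rw [← AlgEquiv.mul_apply, mul_inv_cancel]; rfl)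
    have h1 : H1.gal σ (c h') = H1.gal σ (u₀ * (φ h' u₀)⁻¹) := by rw [← hu₀]
    rw [map_mul, map_inv] at h1
    have h2 : H1.gal σ (c h') = c h := hcσ σ h' h hsh
    have h3 : H1.gal σ (φ h' u₀) = φ h (H1.gal σ u₀) := by
      show post (σ : K →ₐ[k] K) (Conn.conjHom ψ J hJ (s h') u₀) = Conn.conjHom ψ J hJ (s h) _
      rw [Conn.post_conjHom, hsh]
    rw [h2, h3, hu₀ h] at h1
    show φ h (u₀⁻¹ * H1.gal σ u₀) = u₀⁻¹ * H1.gal σ u₀
    rw [map_mul, map_inv, eq_inv_mul_iff_mul_eq, ← mul_assoc, h1, inv_mul_cancel_right]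
  have hdc : ∀ σ τ, d (σ * τ) = d σ * H1.gal σ (d τ) := fun σ τ => by
    show u₀⁻¹ * H1.gal (σ * τ) u₀ = _
    rw [H1.gal_mul]
    simp only [d, map_mul, map_inv]
    group
  obtain ⟨L, hLfin, hLn, -, hLu⟩ := H1.exists_finite_normal (⊥ : IntermediateField k K) u₀.ofConv
  haveI := hLfin
  haveI := hLn
  have hdL : ∀ σ : K ≃ₐ[k] K, (∀ x ∈ L, σ x = x) → d σ = 1 := fun σ hσ => by
    show u₀⁻¹ * H1.gal σ u₀ = 1
    rw [show H1.gal σ u₀ = u₀ from WithConv.ofConv_injective (AlgHom.ext fun a => hσ _ (hLu a)), inv_mul_cancel]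
  -- a fixed solution of the cocycle of the Galois group
  obtain ⟨z, hz, hzd⟩ : ∃ z, (∀ h, φ h z = z) ∧ ∀ σ, d σ = z⁻¹ * H1.gal σ z := by
    obtain ⟨p, hp⟩ := CharP.exists k
    rcases CharP.char_is_prime_or_zero k p with hpp | rfl
    · haveI := Fact.mk hpp
      let S : Set (A ⧸ J →ₐ[k] K) := {x | ∀ h, φ h (toConv x) = toConv x}
      have hS : GalPts.IsStable S := fun σ x hx => hfix' σ (toConv x) hx
      haveI := GalPts.isHopfIdeal_vanish hS (show (1 : Pt k (A ⧸ J) K).ofConv ∈ S from fun h => map_one (φ h))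
        (fun x hx y hy h => by
          show φ h (toConv x * toConv y) = toConv x * toConv y
          rw [map_mul, hx h, hy h])
        (fun x hx h => by
          show φ h (toConv x)⁻¹ = (toConv x)⁻¹
          rw [map_inv, hx h])
      have hclosed : ∀ x : Pt k (A ⧸ J) K, (∀ a ∈ GalPts.vanish S, x.ofConv a = 0) → ∀ h, φ h x = x := by
        intro x hx h
        let W := Conn.conjHom ψ J hJ (Kernel.cstPt (A ⧸ J) (s h)) (Kernel.univPt (AlgHom.id k (A ⧸ J)))
        have hev : ∀ y : A ⧸ J →ₐ[k] K, Kernel.evPt y W = φ h (toConv y) := fun y => by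
          show post _ (Conn.conjHom ψ J hJ _ _) = _
          rw [Conn.post_conjHom]
          erw [Kernel.evPt_cstPt y (s h), Kernel.evPt_univPt y (AlgHom.id k (A ⧸ J))]
          rfl
        refine WithConv.ofConv_injective (AlgHom.ext fun b => ?_)
        have h1 := GalPts.ev_eq_zero_of_vanish hS (w := W.ofConv b - (1 : K) ⊗ₜ[k] b) (fun y hy => by
          rw [map_sub, GalPts.ev_tmul, one_mul, sub_eq_zero]
          exact (congrArg (fun F : Pt k (A ⧸ J) K => F.ofConv b) ((hev y).trans (hy h)) :)) x.ofConv hx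
        rw [map_sub, GalPts.ev_tmul, one_mul, sub_eq_zero] at h1
        rw [← h1]
        exact (congrArg (fun F : Pt k (A ⧸ J) K => F.ofConv b) (hev x.ofConv)).symm
      haveI : IsReduced ((A ⧸ J) ⧸ GalPts.vanish S) := ⟨fun b ⟨m, hb⟩ => by
        obtain ⟨a, rfl⟩ := Ideal.Quotient.mk_surjective b
        rw [← map_pow, Ideal.Quotient.eq_zero_iff_mem] at hb
        refine Ideal.Quotient.eq_zero_iff_mem.2 (GalPts.mem_vanish.2 fun y hy => ?_)
        have := GalPts.mem_vanish.1 hb y hy
        rw [map_pow] at this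
        exact eq_zero_of_pow_eq_zero this⟩
      -- the retraction onto the fixed points
      haveI : CharP K p := charP_of_injective_algebraMap (algebraMap k K).injective p
      obtain ⟨r, hr⟩ := exists_exponent (k := K) (R := K ⊗[k] (A ⧸ J)) p (H66.UnipBC.isUnipotent_baseChange hU)
      have hexp : ∀ x : Pt k (A ⧸ J) K, x ^ p ^ r = 1 := fun x => by
        apply (bcPt (k := k) (K := K) (X := A ⧸ J)).injective
        rw [map_pow, map_one, hr]
      obtain ⟨m, t, he⟩ : ∃ m t, Fintype.card H * m = p ^ r * t + 1 := by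
        have hdvd : ¬ p ∣ Fintype.card H := fun h => hN ((CharP.cast_eq_zero_iff k p _).2 h)
        rcases Nat.eq_zero_or_pos r with rfl | hr0
        · exact ⟨1, Fintype.card H - 1, by have := Fintype.card_pos (α := H); simp only [pow_zero]; omega⟩
        · obtain ⟨e', he'⟩ := Nat.exists_mul_mod_eq_one_of_coprime
            ((Nat.Coprime.pow_right r ((Nat.Prime.coprime_iff_not_dvd hpp).2 hdvd).symm))
            (Nat.one_lt_pow hr0.ne' hpp.one_lt)
          exact ⟨e', Fintype.card H * e' / p ^ r, by have := Nat.div_add_mod (Fintype.card H * e') (p ^ r); omega⟩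
      obtain ⟨N, hNtop⟩ := (Group.IsNilpotent.nilpotent (G := Pt k (A ⧸ J) K))
      let X := (A ⧸ J) ⧸ nilradical (A ⧸ J)
      let qX : A ⧸ J →ₐ[k] X := Ideal.Quotient.mkₐ k _
      haveI : IsReduced X := (Ideal.isRadical_iff_quotient_reduced _).1 (Ideal.radical_isRadical _)
      haveI : Algebra.FiniteType k X := Algebra.FiniteType.of_surjective qX Ideal.Quotient.mk_surjective
      have hX : ∀ f : X, IsIdempotentElem f → f = 0 ∨ f = 1 := by
        intro f hf
        obtain ⟨e, he, rfl⟩ := exists_isIdempotentElem_eq_of_ker_isNilpotent (Ideal.Quotient.mk (nilradical (A ⧸ J)))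
          (fun x hx => mem_nilradical.1 (Ideal.Quotient.eq_zero_iff_mem.1 hx)) f
          (Ideal.Quotient.mk_surjective f) hf
        rcases hconn e he with rfl | rfl
        · exact Or.inl (map_zero _)
        · exact Or.inr (map_one _)
      let x₀ : X →ₐ[k] k := Ideal.Quotient.liftₐ _ (Bialgebra.counitAlgHom k (A ⧸ J))
        fun a ha => ((mem_nilradical.1 ha).map (Bialgebra.counitAlgHom k (A ⧸ J))).eq_zero
      let l : List H := (Finset.univ : Finset H).toList
      let φX : H → MulAut (Pt k (A ⧸ J) (K ⊗[k] X)) := fun h => Conn.conjHom ψ J hJ (Kernel.cstPt X (s h))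
      let Y : Pt k (A ⧸ J) (K ⊗[k] X) := (AbsCoh.step φX l m)^[N] (Kernel.univPt qX)
      have hY : ∀ y : X →ₐ[k] K, Kernel.evPt y Y = (AbsCoh.step φ l m)^[N] (toConv (y.comp qX)) := by
        intro y
        have hnat : ∀ i w, Kernel.evPt y ((AbsCoh.step φX l m)^[i] w) =
            (AbsCoh.step φ l m)^[i] (Kernel.evPt y w) := by
          intro i
          induction i with
          | zero => intro w; rfl
          | succ i ih =>
            intro w
            rw [Function.iterate_succ_apply, Function.iterate_succ_apply, ih, AbsCoh.step_natural φX φ]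
            intro h x
            show post _ (Conn.conjHom ψ J hJ _ x) = Conn.conjHom ψ J hJ (s h) _
            rw [Conn.post_conjHom]
            erw [Kernel.evPt_cstPt y (s h)]
            rfl
        rw [hnat, Kernel.evPt_univPt]
      have hYS : ∀ y : X →ₐ[k] K, (Kernel.evPt y Y).ofConv ∈ S := fun y h => by
        rw [toConv_ofConv, hY]
        exact AbsCoh.iterate_step_fixed φ l (List.Perm.refl _) he hexp hNtop _ h
      have hSX : ∀ w ∈ S, ∃ y : X →ₐ[k] K, (Kernel.evPt y Y).ofConv = w := by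
        intro w hw
        refine ⟨Ideal.Quotient.liftₐ _ w fun a ha => ((mem_nilradical.1 ha).map w).eq_zero, ?_⟩
        rw [hY, show (Ideal.Quotient.liftₐ (nilradical (A ⧸ J)) w
          (fun a ha => ((mem_nilradical.1 ha).map w).eq_zero) : X →ₐ[k] K).comp qX = w from AlgHom.ext fun _ => rfl]
        have : (AbsCoh.step φ l m)^[N] (toConv w) = toConv w := by
          have hfix := AbsCoh.step_eq_self φ l m (x := toConv w) hw
          exact Function.iterate_fixed hfix N
        rw [this]
      have hconn' : ∀ f : A ⧸ J, f * f - f ∈ GalPts.vanish S → f ∈ GalPts.vanish S ∨ 1 - f ∈ GalPts.vanish S := by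
        intro f hf
        have hidem : ∀ y, GalPts.ev y (Y.ofConv f) * GalPts.ev y (Y.ofConv f) = GalPts.ev y (Y.ofConv f) := fun y => by
          have h := GalPts.mem_vanish.1 hf _ (hYS y)
          rw [map_sub, map_mul, sub_eq_zero] at h
          exact h
        have hval : ∀ w ∈ S, w f = (Kernel.evPt ((Algebra.ofId k K).comp x₀) Y).ofConv f := fun w hw => by
          obtain ⟨y, rfl⟩ := hSX w hw
          exact GalPts.eq_const_of_idem hX x₀ (Y.ofConv f) hidem y _
        rcases IsIdempotentElem.iff_eq_zero_or_one.1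
          (show IsIdempotentElem ((Kernel.evPt ((Algebra.ofId k K).comp x₀) Y).ofConv f) from hidem _) with h | h
        · exact Or.inl (GalPts.mem_vanish.2 fun w hw => (hval w hw).trans h)
        · exact Or.inr (GalPts.mem_vanish.2 fun w hw => by rw [map_sub, map_one, hval w hw, h, sub_self])
      obtain ⟨z, hz, hzd⟩ := H1.exists_coboundary (p := p) hU (GalPts.vanish S) hconn' L d
        (fun σ a ha => GalPts.mem_vanish.1 ha (d σ).ofConv (hd σ)) hdc hdL
      exact ⟨z, hclosed z hz, hzd⟩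
    · haveI : CharZero k := CharP.charP_to_charZero k
      let res : (K ≃ₐ[k] K) →* (L ≃ₐ[k] L) := AlgEquiv.restrictNormalHom L
      have hres : ∀ (σ : K ≃ₐ[k] K) (x : L), σ (x : K) = (res σ x : K) := fun σ x =>
        (AlgEquiv.restrictNormal_commutes σ L x).symm
      let lift : (L ≃ₐ[k] L) → (K ≃ₐ[k] K) := fun g => g.liftNormal K
      have hlift : ∀ g, res (lift g) = g := fun g => g.restrict_liftNormal K
      let Z : Subgroup (Pt k (A ⧸ J) K) :=
        { carrier := {x | (∀ h, φ h x = x) ∧ ∀ ρ : K ≃ₐ[k] K, (∀ a ∈ L, ρ a = a) → H1.gal ρ x = x}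
          one_mem' := ⟨fun h => map_one _, fun ρ _ => map_one _⟩
          mul_mem' := fun {a b} ha hb => ⟨fun h => by rw [map_mul, ha.1, hb.1],
            fun ρ hρ => by rw [map_mul, ha.2 ρ hρ, hb.2 ρ hρ]⟩
          inv_mem' := fun {a} ha => ⟨fun h => by rw [map_inv, ha.1], fun ρ hρ => by rw [map_inv, ha.2 ρ hρ]⟩ }
      have hfixL : ∀ σ τ : K ≃ₐ[k] K, res σ = res τ → ∀ a ∈ L, (σ⁻¹ * τ) a = a := fun σ τ h a ha => by
        have h2 : res (σ⁻¹ * τ) = 1 := by rw [map_mul, map_inv, h, inv_mul_cancel]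
        have := hres (σ⁻¹ * τ) ⟨a, ha⟩
        rw [h2] at this
        exact this
      have heq : ∀ σ τ : K ≃ₐ[k] K, res σ = res τ → ∀ x ∈ Z, H1.gal σ x = H1.gal τ x := fun σ τ h x hx => by
        conv_rhs => rw [← mul_inv_cancel_left σ τ, H1.gal_mul, hx.2 _ (hfixL σ τ h)]
      have hmem : ∀ σ, ∀ x ∈ Z, H1.gal σ x ∈ Z := fun σ x hx => ⟨hfix' σ x hx.1, fun ρ hρ => by
        rw [← H1.gal_mul]
        refine heq _ _ ?_ x hx
        have h2 : res ρ = 1 := AlgEquiv.ext fun a => Subtype.ext ((hres ρ a).symm.trans (hρ a a.2))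
        rw [map_mul, h2, one_mul]⟩
      have hgal1 : ∀ x, H1.gal (R₀ := A ⧸ J) (1 : K ≃ₐ[k] K) x = x := fun x => rfl
      let ξ : (L ≃ₐ[k] L) →* MulAut Z :=
        { toFun := fun g =>
            { toFun := fun x => ⟨H1.gal (lift g) x.1, hmem _ _ x.2⟩
              invFun := fun x => ⟨H1.gal (lift g⁻¹) x.1, hmem _ _ x.2⟩
              left_inv := fun x => Subtype.ext (by
                show H1.gal _ (H1.gal _ x.1) = x.1
                rw [← H1.gal_mul, heq _ 1 (by rw [map_mul, hlift, hlift, inv_mul_cancel, map_one]) x.1 x.2, hgal1])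
              right_inv := fun x => Subtype.ext (by
                show H1.gal _ (H1.gal _ x.1) = x.1
                rw [← H1.gal_mul, heq _ 1 (by rw [map_mul, hlift, hlift, mul_inv_cancel, map_one]) x.1 x.2, hgal1])
              map_mul' := fun a b => Subtype.ext (map_mul (H1.gal (lift g)) a.1 b.1) }
          map_one' := MulEquiv.ext fun x => Subtype.ext (by
            show H1.gal (lift 1) x.1 = x.1
            rw [heq _ 1 (by rw [hlift, map_one]) x.1 x.2, hgal1])
          map_mul' := fun g g' => MulEquiv.ext fun x => Subtype.ext (by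
            show H1.gal (lift (g * g')) x.1 = H1.gal (lift g) (H1.gal (lift g') x.1)
            rw [← H1.gal_mul, heq _ (lift g * lift g') (by rw [map_mul, hlift, hlift, hlift]) x.1 x.2]) }
      have hM : (Fintype.card (L ≃ₐ[k] L) : k) ≠ 0 := Nat.cast_ne_zero.2 Fintype.card_ne_zero
      have hpow' := pow_bijective_ext (K := K) hU hM
      have hZpow : Function.Bijective fun x : Z => x ^ Fintype.card (L ≃ₐ[k] L) := by
        refine ⟨fun a b hab => Subtype.ext (hpow'.1 (congrArg Subtype.val hab)), fun a => ?_⟩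
        obtain ⟨y, hy⟩ := hpow'.2 a.1
        have hy' : y ^ Fintype.card (L ≃ₐ[k] L) = a.1 := hy
        refine ⟨⟨y, fun h => hpow'.1 ?_, fun ρ hρ => hpow'.1 ?_⟩, Subtype.ext hy'⟩
        · show (φ h y) ^ _ = y ^ _
          rw [← map_pow, hy', a.2.1 h]
        · show (H1.gal ρ y) ^ _ = y ^ _
          rw [← map_pow, hy', a.2.2 ρ hρ]
      have hdep : ∀ σ τ, res σ = res τ → d σ = d τ := fun σ τ h => by
        have := hdc σ (σ⁻¹ * τ)
        rw [mul_inv_cancel_left, hdL _ (hfixL σ τ h), map_one, mul_one] at this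
        exact this.symm
      have hdZ : ∀ σ, d σ ∈ Z := fun σ => ⟨hd σ, fun ρ hρ => by
        have h2 : res ρ = 1 := AlgEquiv.ext fun a => Subtype.ext ((hres ρ a).symm.trans (hρ a a.2))
        have h := hdc ρ σ
        rw [hdL ρ hρ, one_mul, hdep (ρ * σ) σ (by rw [map_mul, h2, one_mul])] at h
        exact h.symm⟩
      obtain ⟨w, hw⟩ := AbsCoh.exists_coboundary Z hZpow ξ (fun g => ⟨d (lift g), hdZ _⟩) fun g g' => Subtype.ext (by
        show d (lift (g * g')) = d (lift g) * H1.gal (lift g) (d (lift g'))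
        rw [← hdc]
        exact hdep _ _ (by rw [map_mul, hlift, hlift, hlift]))
      refine ⟨(w⁻¹ : Z).1, (w⁻¹).2.1, fun σ => ?_⟩
      have h := congrArg Subtype.val (hw (res σ))
      rw [hdep σ (lift (res σ)) (hlift _).symm, ← heq (lift (res σ)) σ (hlift _) _ (w⁻¹).2, Subgroup.coe_inv, inv_inv,
        map_inv]
      exact h
  -- rationality
  let u : Pt k (A ⧸ J) K := u₀ * z⁻¹
  have hufix : ∀ σ, H1.gal σ u = u := fun σ => by
    have h1 : H1.gal σ u₀ = u₀ * (z⁻¹ * H1.gal σ z) := by
      rw [← hzd σ]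
      show H1.gal σ u₀ = u₀ * (u₀⁻¹ * H1.gal σ u₀)
      rw [mul_inv_cancel_left]
    show H1.gal σ (u₀ * z⁻¹) = u₀ * z⁻¹
    rw [map_mul, map_inv, h1]
    group
  choose f hf using fun x => GalPts.mem_range_of_fixed (k := k) (x := u.ofConv x)
    fun σ => congrArg (fun F : Pt k (A ⧸ J) K => F.ofConv x) (hufix σ)
  have hinj := (algebraMap k K).injective
  let uk : Pt k (A ⧸ J) k := toConv
    { toFun := f
      map_one' := hinj (by rw [hf, map_one, map_one])
      map_mul' := fun a b => hinj (by rw [hf, map_mul, map_mul, hf, hf])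
      map_zero' := hinj (by rw [hf, map_zero, map_zero])
      map_add' := fun a b => hinj (by rw [hf, map_add, map_add, hf, hf])
      commutes' := fun r => hinj (by rw [hf]; exact AlgHom.commutes _ r) }
  have huk : post (Algebra.ofId k K) uk = u := WithConv.ofConv_injective (AlgHom.ext fun x => hf x)
  refine ⟨uk, fun h => ?_⟩
  rw [huk, hu₀ h]
  show u₀ * (φ h u₀)⁻¹ = u₀ * z⁻¹ * (φ h (u₀ * z⁻¹))⁻¹
  rw [map_mul, map_inv, hz h]
  group

theorem retractions_conj_of_perfect (hB : SGA3b.IsMultTypeConst k B) (ψ : B →ₐc[k] A) (J : Ideal A) [J.IsHopfIdeal k]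
    (hJ : J = Ideal.map (ψ : B →+* A) (RingHom.ker (Bialgebra.counitAlgHom k B)))
    (hU : HopfRep.IsUnipotent k (A ⧸ J)) [Algebra.FormallySmooth k B] [PerfectField k]
    (hconn : ∀ e : A ⧸ J, IsIdempotentElem e → e = 0 ∨ e = 1)
    (r' r'' : A →ₐc[k] B) (hr' : r'.comp ψ = BialgHom.id k B) (hr'' : r''.comp ψ = BialgHom.id k B) :
    ∃ u : Pt k A k, (∀ a ∈ J, u.ofConv a = 0) ∧
      toConv (r'' : A →ₐ[k] B) = post (Algebra.ofId k B) u * toConv (r' : A →ₐ[k] B) *
        (post (Algebra.ofId k B) u)⁻¹ := by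
  classical
  haveI : Coalgebra.IsCocomm k B := isCocomm_of_multType hB
  let K := AlgebraicClosure k
  obtain ⟨M, _, ⟨e⟩⟩ := H66.EtExt.isDiag_algClosed k B hB K
  let mk : A →ₐc[k] A ⧸ J := Bialgebra.Quotient.mkBialgHom (R := k) J
  let inc : Pt k A k →* Pt k A K := post (Algebra.ofId k K)
  haveI : Algebra.FiniteType k (A ⧸ J) :=
    Algebra.FiniteType.of_surjective (mk : A →ₐ[k] A ⧸ J) Ideal.Quotient.mk_surjective
  have hrψ : ∀ r : A →ₐc[k] B, r.comp ψ = BialgHom.id k B → ∀ h : Pt k B K, pre ψ (pre r h) = h := fun r hr h =>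
    WithConv.ofConv_injective (AlgHom.ext fun b =>
      congrArg h.ofConv (congrArg (fun f : B →ₐc[k] B => f b) hr))
  let s : Pt k B K →* Pt k A K := pre r'
  let s'' : Pt k B K →* Pt k A K := pre r''
  let c : Pt k B K → Pt k A K := fun h => s'' h * (s h)⁻¹
  have hc : ∀ h, pre ψ (c h) = 1 := fun h => by
    rw [map_mul, map_inv, hrψ r'' hr'', hrψ r' hr', mul_inv_cancel]
  let cB : Pt k A B := toConv (r'' : A →ₐ[k] B) * (toConv (r' : A →ₐ[k] B))⁻¹
  have hcB : ∀ h : Pt k B K, c h = post h.ofConv cB := fun h => by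
    show _ = post h.ofConv (toConv (r'' : A →ₐ[k] B) * (toConv (r' : A →ₐ[k] B))⁻¹)
    rw [map_mul, post_inv]
    rfl
  have hccl : ∀ g h, c (g * h) = c g * (s g * c h * (s g)⁻¹) := fun g h => by
    simp only [c, map_mul, mul_inv_rev]
    group
  have hs_inj : Function.Injective s := fun a b hab => by
    rw [← hrψ r' hr' a, ← hrψ r' hr' b]
    exact congrArg (pre ψ) hab
  -- finitely many torsion points
  let G : ℕ → Set (Pt k B K) := fun n => {h | h ^ n = 1}
  have hGm : ∀ {n : ℕ}, (n : k) ≠ 0 → ∀ g ∈ G n, ∀ h ∈ G n, g * h ∈ G n := fun {n} _ g hg h hh => by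
    show (g * h) ^ n = 1
    rw [(commute_of_cocomm g h).mul_pow, show g ^ n = 1 from hg, show h ^ n = 1 from hh, one_mul]
  have hstep : ∀ n : ℕ, (n : k) ≠ 0 → ∃ u : Pt k A k, pre ψ u = 1 ∧ ∀ h ∈ G n, s'' h = inc u * s h * (inc u)⁻¹ := by
    intro n hn
    have hn0 : 0 < n := Nat.pos_of_ne_zero fun h => hn (by rw [h, Nat.cast_zero])
    let H : Subgroup (Pt k B K) :=
      { carrier := G n
        one_mem' := one_pow _
        mul_mem' := fun {a b} ha hb => hGm hn a ha b hb
        inv_mem' := fun {a} ha => by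
          show a⁻¹ ^ n = 1
          rw [inv_pow, show a ^ n = 1 from ha, inv_one] }
    haveI : Fintype H := (finite_torsion e hn0).fintype
    have hN : (Fintype.card H : k) ≠ 0 := natCast_card_ne_zero hn H fun x => x.2
    choose c' hc' using fun h : H => exists_pre_mk ψ J hJ (hc h.1)
    obtain ⟨u, hu⟩ := exists_rational_coboundary (K := K) ψ J hJ hU hconn (s.comp H.subtype) hN
      (fun σ h => ⟨⟨post (σ : K →ₐ[k] K) h.1, by
        show (post (σ : K →ₐ[k] K) h.1) ^ n = 1
        rw [← map_pow, show h.1 ^ n = 1 from h.2, map_one]⟩, WithConv.ofConv_injective (AlgHom.ext fun x => rfl)⟩)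
      c' (fun g h => pre_mk_injective J (by
        show pre mk (c' (g * h)) = pre mk (c' g * Conn.conjHom ψ J hJ (s g.1) (c' h))
        rw [map_mul, Conn.pre_mk_conjHom, hc', hc', hc']
        exact hccl g.1 h.1))
      (fun σ h h' hh => by
        apply pre_mk_injective J
        show post (σ : K →ₐ[k] K) (pre mk (c' h)) = pre mk (c' h')
        rw [hc', hc']
        have h2 : h'.1 = post (σ : K →ₐ[k] K) h.1 := by
          apply hs_inj
          show s h'.1 = s (post (σ : K →ₐ[k] K) h.1)
          exact hh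
        rw [h2, hcB, hcB]
        exact WithConv.ofConv_injective (AlgHom.ext fun x => rfl))
    refine ⟨pre mk u, pre_psi_pre_mk ψ J hJ u, fun h hh => ?_⟩
    have h1 := congrArg (pre mk) (hu ⟨h, hh⟩)
    rw [map_mul, map_inv, Conn.pre_mk_conjHom, hc'] at h1
    show s'' h = pre mk (post (Algebra.ofId k K) u) * s h * (pre mk (post (Algebra.ofId k K) u))⁻¹
    refine mul_right_cancel (b := (s h)⁻¹) (h1.trans ?_)
    simp only [MonoidHom.comp_apply, Subgroup.coe_subtype, mk]
    group
  -- stabilisation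
  let Z : ℕ → Set (Pt k A k) := fun n => {v | pre ψ v = 1 ∧ ∀ h ∈ G n, inc v * s h = s h * inc v}
  let I : ℕ → Ideal A := fun n =>
    { carrier := {a | ∀ v ∈ Z n, v.ofConv a = 0}
      add_mem' := fun ha hb v hv => by rw [map_add, ha v hv, hb v hv, add_zero]
      zero_mem' := fun v _ => map_zero _
      smul_mem' := fun r a ha v hv => by rw [smul_eq_mul, map_mul, ha v hv, mul_zero] }
  haveI : IsNoetherianRing A := Algebra.FiniteType.isNoetherianRing k A
  obtain ⟨J₀, ⟨⟨n₀, hn₀⟩, hJ₀⟩, hmax⟩ := set_has_maximal_iff_noetherian.2 inferInstance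
    (Set.range fun n : {n : ℕ // (n : k) ≠ 0} => I n.1) ⟨_, ⟨⟨1, by simp⟩, rfl⟩⟩
  subst hJ₀
  obtain ⟨u, hu1, hu⟩ := hstep n₀ hn₀
  refine ⟨u, kills_of_pre_eq_one ψ hJ hu1, ?_⟩
  have hall : ∀ n : ℕ, (n : k) ≠ 0 → ∀ h ∈ G n, s'' h = inc u * s h * (inc u)⁻¹ := by
    intro n hn h hh
    let m : ℕ := n₀ * n
    have hm : (m : k) ≠ 0 := by rw [Nat.cast_mul]; exact mul_ne_zero hn₀ hn
    have hsub0 : G n₀ ⊆ G m := fun g hg => by
      show g ^ (n₀ * n) = 1
      rw [pow_mul, show g ^ n₀ = 1 from hg, one_pow]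
    have hZsub : Z m ⊆ Z n₀ := fun v hv => ⟨hv.1, fun g hg => hv.2 g (hsub0 hg)⟩
    have hI : I n₀ = I m := by
      rcases eq_or_lt_of_le (show I n₀ ≤ I m from fun a ha v hv => ha v (hZsub hv)) with h1 | h1
      · exact h1
      · exact absurd h1 (hmax (I m) ⟨⟨m, hm⟩, rfl⟩)
    have hhm : h ∈ G m := by
      show h ^ (n₀ * n) = 1
      rw [mul_comm, pow_mul, show h ^ n = 1 from hh, one_pow]
    obtain ⟨w, hw1, hw⟩ := hstep m hm
    have hv : w⁻¹ * u ∈ Z n₀ := ⟨by rw [map_mul, map_inv, hw1, hu1, inv_one, one_mul], fun g hg => by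
      have e1 := hu g hg
      rw [hw g (hsub0 hg)] at e1
      rw [map_mul, map_inv]
      calc (inc w)⁻¹ * inc u * s g = (inc w)⁻¹ * (inc u * s g * (inc u)⁻¹) * inc u := by group
        _ = _ := by rw [← e1]; group⟩
    -- closedness of the centralizer
    have hvm : ∀ g ∈ G m, inc (w⁻¹ * u) * s g = s g * inc (w⁻¹ * u) := by
      intro g hg
      refine WithConv.ofConv_injective (AlgHom.ext fun a => ?_)
      let D : A →ₗ[k] K ⊗[k] A :=
        ((s g).ofConv.toLinearMap.rTensor A ∘ₗ (TensorProduct.comm k A A).toLinearMap ∘ₗ CoalgebraStruct.comul) -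
          ((s g).ofConv.toLinearMap.rTensor A ∘ₗ CoalgebraStruct.comul)
      have hD : ∀ v : Pt k A k, (inc v * s g).ofConv a - (s g * inc v).ofConv a =
          TensorProduct.rid k K (v.ofConv.toLinearMap.lTensor K (D a)) := by
        intro v
        show (inc v * s g) a - (s g * inc v) a = _
        rw [AlgHom.convMul_apply, AlgHom.convMul_apply]
        simp only [D, LinearMap.sub_apply, LinearMap.comp_apply, LinearEquiv.coe_coe, map_sub]
        congr 1
        · generalize CoalgebraStruct.comul (R := k) a = z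
          induction z using TensorProduct.induction_on with
          | zero => simp
          | add p q hp hq => simp only [map_add, hp, hq]
          | tmul x y => simp [inc, post_apply, Algebra.smul_def]
        · generalize CoalgebraStruct.comul (R := k) a = z
          induction z using TensorProduct.induction_on with
          | zero => simp
          | add p q hp hq => simp only [map_add, hp, hq]
          | tmul x y => simp [inc, post_apply, Algebra.smul_def, mul_comm]
      let b := Module.Free.chooseBasis k K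
      let ev := TensorProduct.equivFinsuppOfBasisLeft b (N := A)
      have hev : ∀ v : Pt k A k, TensorProduct.rid k K (v.ofConv.toLinearMap.lTensor K (D a)) =
          (ev (D a)).sum fun i x => v.ofConv x • b i := by
        intro v
        conv_lhs => rw [← ev.symm_apply_apply (D a), TensorProduct.equivFinsuppOfBasisLeft_symm_apply]
        simp only [Finsupp.sum, map_sum, LinearMap.lTensor_tmul, TensorProduct.rid_tmul]
        rfl
      have hcoef : ∀ i, ev (D a) i ∈ I m := by
        intro i v hv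
        have h0 := hD v
        rw [hv.2 g hg, sub_self, hev] at h0
        have h1 := congrArg (fun z => b.repr z i) h0.symm
        simp only [Finsupp.sum, map_sum, map_smul, Module.Basis.repr_self, Finsupp.smul_single, smul_eq_mul,
          mul_one, Finsupp.finsetSum_apply, Finsupp.single_apply, map_zero, Finsupp.coe_zero, Pi.zero_apply,
          Finset.sum_ite_eq'] at h1
        split_ifs at h1 with hi
        · exact h1
        · rw [Finsupp.notMem_support_iff.1 hi, map_zero]
      refine sub_eq_zero.1 ((hD _).trans ((hev _).trans ?_))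
      refine Finset.sum_eq_zero fun i _ => ?_
      have := hcoef i
      rw [← hI] at this
      show (w⁻¹ * u).ofConv (ev (D a) i) • b i = 0
      rw [this _ hv, zero_smul]
    have e2 := hvm h hhm
    rw [map_mul, map_inv] at e2
    rw [hw h hhm]
    calc inc w * s h * (inc w)⁻¹ = inc w * ((s h * ((inc w)⁻¹ * inc u))) * (inc u)⁻¹ := by group
      _ = _ := by rw [← e2]; group
  refine WithConv.ofConv_injective (AlgHom.ext fun a => sub_eq_zero.1 (eq_zero_of_forall_torsion e fun n h hn hh => ?_))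
  have hpost : ∀ r : A →ₐc[k] B, post h.ofConv (toConv (r : A →ₐ[k] B)) = pre r h := fun r => rfl
  have h1 := congrArg (fun F : Pt k A K => F.ofConv a) (hall n hn h hh)
  have hιh : post h.ofConv (post (Algebra.ofId k B) u) = inc u :=
    WithConv.ofConv_injective (AlgHom.ext fun x => AlgHom.commutes h.ofConv (u.ofConv x))
  rw [map_sub, sub_eq_zero]
  refine h1.trans ?_
  show _ = (post h.ofConv (post (Algebra.ofId k B) u * toConv (r' : A →ₐ[k] B) * (post (Algebra.ofId k B) u)⁻¹)).ofConv a
  rw [map_mul, map_mul, post_inv, hιh, hpost]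

end

end Groth.Agent.H66.ConjRat
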