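import Groth.Agent.H66.ConjRat.CommCase
import Groth.Agent.H66.ConjRat.ConnCase
import Groth.Agent.S4128
import Mathlib

/-!
Descent from the algebraic closure of a group splitting of an extension of a smooth group of multiplicative type
by a commutative unipotent group which has a scheme theoretic section.
-/

set_option autoImplicit false
set_option linter.unusedSectionVars false
set_option linter.style.haveILetI false
universe u

namespace Groth.Agent.H66.ConjRat

open TensorProduct WithConv Groth.Agent.H66.MultExt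

noncomputable section

variable {k : Type u} [Field k] {A B : Type u} [CommRing A] [HopfAlgebra k A] [CommRing B] [HopfAlgebra k B]
  [Algebra.FiniteType k A] [Algebra.FiniteType k B]

/-- Over an algebraically closed extension the extension splits. -/
theorem exists_retraction_ext (hB : SGA3b.IsMultTypeConst k B) (ψ : B →ₐc[k] A) (hψ : Function.Injective ψ)
    (J : Ideal A) [J.IsHopfIdeal k] (hJ : J = Ideal.map (ψ : B →+* A) (RingHom.ker (Bialgebra.counitAlgHom k B)))
    (hU : HopfRep.IsUnipotent k (A ⧸ J)) (K : Type u) [Field K] [IsAlgClosed K] [Algebra k K] :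
    ∃ rK : K ⊗[k] A →ₐc[K] K ⊗[k] B, ∀ z, rK (Bialgebra.TensorProduct.map (BialgHom.id K K) ψ z) = z := by
  classical
  let qJ : A →ₐc[k] A ⧸ J := Bialgebra.Quotient.mkBialgHom (R := k) J
  let qK : K ⊗[k] A →ₐc[K] K ⊗[k] (A ⧸ J) := Bialgebra.TensorProduct.map (BialgHom.id K K) qJ
  let ψK : K ⊗[k] B →ₐc[K] K ⊗[k] A := Bialgebra.TensorProduct.map (BialgHom.id K K) ψ
  have hψK : Function.Injective ψK :=
    Module.Flat.lTensor_preserves_injective_linearMap (M := K) (ψ : B →ₐ[k] A).toLinearMap hψ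
  have hqK : Function.Surjective qK :=
    LinearMap.lTensor_surjective K (g := (qJ : A →ₐ[k] A ⧸ J).toLinearMap) Ideal.Quotient.mk_surjective
  let JK : Ideal (K ⊗[k] A) := RingHom.ker (qK : K ⊗[k] A →ₐ[K] K ⊗[k] (A ⧸ J))
  haveI : JK.IsHopfIdeal K := Lib.OT67.OpenPart.isHopfIdeal_ker hqK
  have hJK : JK = Ideal.map (ψK : K ⊗[k] B →+* K ⊗[k] A) (RingHom.ker (Bialgebra.counitAlgHom K (K ⊗[k] B))) := by
    refine le_antisymm (fun z hz => ?_) (Ideal.map_le_iff_le_comap.2 fun z hz => ?_)
    · have hz1 : z ∈ J.map (Algebra.TensorProduct.includeRight (R := k) (A := K) (B := A)) := by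
        have h := Algebra.TensorProduct.lTensor_ker (A := K) (Ideal.Quotient.mkₐ k J) Ideal.Quotient.mk_surjective
        have hk : RingHom.ker (Ideal.Quotient.mkₐ k J) = J := Ideal.mk_ker
        rw [hk] at h
        exact h ▸ (hz : z ∈ RingHom.ker (Algebra.TensorProduct.map (AlgHom.id k K) (Ideal.Quotient.mkₐ k J)))
      refine (?_ : J.map (Algebra.TensorProduct.includeRight (R := k) (A := K) (B := A)) ≤ _) hz1
      refine Ideal.map_le_iff_le_comap.2 ?_
      rw [hJ]
      refine Ideal.map_le_iff_le_comap.2 fun c hc => Ideal.mem_comap.2 (Ideal.mem_comap.2 ?_)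
      show (1 : K) ⊗ₜ[k] ψ c ∈ _
      rw [show (1 : K) ⊗ₜ[k] ψ c = (ψK : K ⊗[k] B →+* K ⊗[k] A) ((1 : K) ⊗ₜ[k] c) from rfl]
      refine Ideal.mem_map_of_mem _ ?_
      show CoalgebraStruct.counit (R := K) ((1 : K) ⊗ₜ[k] c) = 0
      rw [TensorProduct.counit_tmul, show CoalgebraStruct.counit (R := k) c = 0 from hc, zero_smul]
    · show qK (ψK z) = 0
      have h : qK (ψK z) = algebraMap K (K ⊗[k] (A ⧸ J)) (CoalgebraStruct.counit (R := K) z) := by
        clear hz
        induction z using TensorProduct.induction_on with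
        | zero => simp
        | add p q hp hq => simp only [map_add, hp, hq]
        | tmul x c =>
          have hqJψ : qJ (ψ c) = algebraMap k (A ⧸ J) (CoalgebraStruct.counit (R := k) c) := by
            rw [← AlgHom.commutes (Ideal.Quotient.mkₐ k J)]
            refine Ideal.Quotient.eq.2 ?_
            rw [hJ, show algebraMap k A (CoalgebraStruct.counit (R := k) c) =
              (ψ : B →ₐ[k] A) (algebraMap k B (CoalgebraStruct.counit (R := k) c)) from (AlgHom.commutes _ _).symm,
              show ψ c = (ψ : B →ₐ[k] A) c from rfl, ← map_sub]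
            refine Ideal.mem_map_of_mem _ ?_
            show Bialgebra.counitAlgHom k B _ = 0
            rw [map_sub, AlgHom.commutes]
            exact sub_self _
          simp only [qK, ψK, Bialgebra.TensorProduct.map_tmul, BialgHom.id_apply, hqJψ, TensorProduct.counit_tmul,
            CommSemiring.counit_apply]
          rw [Algebra.TensorProduct.algebraMap_apply, Algebra.algebraMap_eq_smul_one, TensorProduct.tmul_smul,
            TensorProduct.smul_tmul', Algebra.smul_def, Algebra.algebraMap_self, RingHom.id_apply]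
      rw [h, show CoalgebraStruct.counit (R := K) z = 0 from hz, map_zero]
  let f₀ : (K ⊗[k] A) ⧸ JK →ₐc[K] K ⊗[k] (A ⧸ J) := BialgHom.ofAlgHom
    (Ideal.Quotient.liftₐ JK (qK : K ⊗[k] A →ₐ[K] K ⊗[k] (A ⧸ J)) fun a ha => ha)
    (Ideal.Quotient.algHom_ext K (AlgHom.ext fun a => CoalgHomClass.counit_comp_apply qK a))
    (Ideal.Quotient.algHom_ext K (AlgHom.ext fun a => by
      refine Eq.trans ?_ (CoalgHomClass.map_comp_comul_apply qK a)
      show Algebra.TensorProduct.map _ _ (CoalgebraStruct.comul (R := K) (Ideal.Quotient.mk JK a)) = _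
      rw [show CoalgebraStruct.comul (R := K) (Ideal.Quotient.mk JK a) = _ from
        (CoalgHomClass.map_comp_comul_apply (Bialgebra.Quotient.mkBialgHom (R := K) JK) a).symm]
      generalize CoalgebraStruct.comul (R := K) a = w
      induction w using TensorProduct.induction_on with
      | zero => simp
      | add p q hp hq => simp only [map_add, hp, hq]
      | tmul p q => rfl))
  have hf₀inj : Function.Injective f₀ := by
    refine (injective_iff_map_eq_zero f₀).2 fun y hy => ?_
    obtain ⟨a, rfl⟩ := Ideal.Quotient.mk_surjective y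
    exact Ideal.Quotient.eq_zero_iff_mem.2 hy
  have hf₀surj : Function.Surjective f₀ := fun y => by
    obtain ⟨a, rfl⟩ := hqK y
    exact ⟨Ideal.Quotient.mk JK a, rfl⟩
  have hUK : HopfRep.IsUnipotent K ((K ⊗[k] A) ⧸ JK) :=
    H66.ExactSeq.isUnipotent_of_injective f₀ hf₀inj (H66.UnipBC.isUnipotent_baseChange hU)
  obtain ⟨rK, hrK⟩ := S4128.result K (K ⊗[k] A) (K ⊗[k] B) (H66.EtExt.isDiag_algClosed k B hB K) ψK hψK JK hJK hUK
  exact ⟨rK, fun z => congrArg (fun f : K ⊗[k] B →ₐc[K] K ⊗[k] B => f z) hrK⟩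

section Descent

variable {K : Type u} [Field K] [Algebra k K]

/-- Applying a linear map to the coefficients. -/
theorem bcPt_rTensor (φ : K →ₗ[k] K) (h h' : Pt k B K) (hφ : ∀ c b, φ (c * h.ofConv b) = φ c * h'.ofConv b)
    (z : K ⊗[k] B) : (bcPt h').ofConv (φ.rTensor B z) = φ ((bcPt h).ofConv z) := by
  induction z using TensorProduct.induction_on with
  | zero => simp
  | add p q hp hq => simp only [map_add, hp, hq]
  | tmul c b => rw [LinearMap.rTensor_tmul, bcPt_apply, bcPt_apply, hφ]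

/-- Descent of a function with separable Galois equivariant values at the torsion points. -/
theorem exists_one_tmul [Algebra.FormallySmooth k B] [Coalgebra.IsCocomm k B] [IsAlgClosed K]
    [Algebra.IsAlgebraic k K] {M : Type u} [CommGroup M] (e : K ⊗[k] B ≃ₐc[K] MonoidAlgebra K M) {z : K ⊗[k] B}
    (hsep : ∀ (n : ℕ) (h : Pt k B K), (n : k) ≠ 0 → h ^ n = 1 → IsSeparable k ((bcPt h).ofConv z))
    (hgal : ∀ (τ : K ≃ₐ[k] K) (n : ℕ) (h : Pt k B K), (n : k) ≠ 0 → h ^ n = 1 →
      (bcPt (post (τ : K →ₐ[k] K) h)).ofConv z = τ ((bcPt h).ofConv z)) :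
    ∃ b, (1 : K) ⊗ₜ[k] b = z := by
  classical
  haveI : IsAlgClosure k K := ⟨‹_›, ‹_›⟩
  haveI : Normal k K := IsAlgClosure.normal k K
  let L := separableClosure k K
  obtain ⟨g, hg⟩ := (Algebra.linearMap L K).exists_leftInverse_of_injective
    (LinearMap.ker_eq_bot.2 (algebraMap L K).injective)
  let φ : K →ₗ[k] K := (Algebra.linearMap L K).restrictScalars k ∘ₗ g.restrictScalars k
  have hφ : ∀ (c : K) (l : L), φ (c * l) = φ c * l := by
    intro c l
    show ((g (c * l) : L) : K) = ((g c : L) : K) * l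
    rw [show c * (l : K) = l • c from mul_comm _ _, map_smul]
    exact mul_comm _ _
  have hφL : ∀ l : L, φ l = l := fun l => congrArg Subtype.val (LinearMap.congr_fun hg l)
  have hL : ∀ (n : ℕ) (h : Pt k B K), (n : k) ≠ 0 → h ^ n = 1 → ∀ b, h.ofConv b ∈ L := fun n h hn hh b =>
    mem_separableClosure_iff.2 (isSeparable_of_pow_eq_one h hn hh b)
  have h1 : φ.rTensor B z = z := by
    refine sub_eq_zero.1 (eq_zero_of_forall_torsion_ext e fun n h hn hh => ?_)
    rw [map_sub, bcPt_rTensor φ h h (fun c b => hφ c ⟨_, hL n h hn hh b⟩), sub_eq_zero]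
    exact hφL ⟨_, mem_separableClosure_iff.2 (hsep n h hn hh)⟩
  have h2 : ∀ τ : K ≃ₐ[k] K, (τ : K →ₐ[k] K).toLinearMap.rTensor B z = z := by
    intro τ
    refine sub_eq_zero.1 (eq_zero_of_forall_torsion_ext e fun n h hn hh => ?_)
    have hh' : (post (τ.symm : K →ₐ[k] K) h) ^ n = 1 := by rw [← map_pow, hh, map_one]
    have hτ : post (τ : K →ₐ[k] K) (post (τ.symm : K →ₐ[k] K) h) = h :=
      WithConv.ofConv_injective (AlgHom.ext fun b => τ.apply_symm_apply _)
    rw [map_sub, sub_eq_zero]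
    refine Eq.trans ?_ ((hgal τ n _ hn hh').symm.trans (by rw [hτ]))
    refine bcPt_rTensor _ _ _ (fun c b => ?_) z
    show τ (c * τ.symm (h.ofConv b)) = τ c * h.ofConv b
    rw [map_mul, τ.apply_symm_apply]
  let bB := Module.Free.chooseBasis k B
  let ev := TensorProduct.equivFinsuppOfBasisRight bB (M := K)
  have hev : ∀ (ψ : K →ₗ[k] K) (w : K ⊗[k] B) i, ev (ψ.rTensor B w) i = ψ (ev w i) := by
    intro ψ w i
    induction w using TensorProduct.induction_on with
    | zero => simp
    | add p q hp hq => simp only [map_add, Finsupp.add_apply, hp, hq]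
    | tmul c b => simp [ev]
  have hc : ∀ i, ev z i ∈ Set.range (algebraMap k K) := fun i => by
    refine mem_range_of_fixed_separable ?_ fun τ => ?_
    · refine mem_separableClosure_iff.1 ?_
      rw [← h1, hev]
      exact (g _).2
    · conv_rhs => rw [← h2 τ, hev]
      rfl
  choose f hf using hc
  refine ⟨∑ i ∈ (ev z).support, f i • bB i, ?_⟩
  conv_rhs => rw [← ev.symm_apply_apply z, TensorProduct.equivFinsuppOfBasisRight_symm_apply]
  rw [TensorProduct.tmul_sum, Finsupp.sum]
  refine Finset.sum_congr rfl fun i _ => ?_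
  rw [← TensorProduct.smul_tmul, ← hf, Algebra.smul_def, mul_one]

/-- Pairs of torsion points detect the functions on the product. -/
theorem eq_of_forall_torsion_pairs [Algebra.FormallySmooth k B] [IsAlgClosed K] {M : Type u} [CommGroup M]
    (e : K ⊗[k] B ≃ₐc[K] MonoidAlgebra K M) {w w' : B ⊗[k] B}
    (hw : ∀ (n m : ℕ) (g h : Pt k B K), (n : k) ≠ 0 → g ^ n = 1 → (m : k) ≠ 0 → h ^ m = 1 →
      Algebra.TensorProduct.lift g.ofConv h.ofConv (fun _ _ => Commute.all _ _) w =
        Algebra.TensorProduct.lift g.ofConv h.ofConv (fun _ _ => Commute.all _ _) w') : w = w' := by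
  classical
  let bB := Module.Free.chooseBasis k B
  let ev := TensorProduct.equivFinsuppOfBasisRight bB (M := B)
  refine ev.injective (Finsupp.ext fun i => sub_eq_zero.1 (eq_zero_of_forall_torsion e fun n g hn hg => ?_))
  have h1 : g.ofConv.toLinearMap.rTensor B (w - w') = 0 := by
    refine eq_zero_of_forall_torsion_ext e fun m h hm hh => ?_
    have hv : ∀ v : B ⊗[k] B, (bcPt h).ofConv (g.ofConv.toLinearMap.rTensor B v) =
        Algebra.TensorProduct.lift g.ofConv h.ofConv (fun _ _ => Commute.all _ _) v := by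
      intro v
      induction v using TensorProduct.induction_on with
      | zero => simp
      | add p q hp hq => simp only [map_add, hp, hq]
      | tmul x y => simp [bcPt_apply]
    rw [hv, map_sub, hw n m g h hn hg hm hh, sub_self]
  have hnat : ∀ v : B ⊗[k] B, g.ofConv (ev v i) =
      TensorProduct.equivFinsuppOfBasisRight bB (g.ofConv.toLinearMap.rTensor B v) i := by
    intro v
    induction v using TensorProduct.induction_on with
    | zero => simp
    | add p q hp hq => simp only [map_add, Finsupp.add_apply, hp, hq]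
    | tmul x y => simp [ev]
  rw [map_sub, hnat, hnat, ← Finsupp.sub_apply, ← map_sub, ← map_sub, h1, map_zero, Finsupp.zero_apply]

end Descent


theorem cob_aux {G : Type*} [CommGroup G] (φ : G →* G) (a b : G) :
    a * b⁻¹ * (φ (a * b⁻¹))⁻¹ = a * (φ a)⁻¹ * φ b * b⁻¹ := by
  rw [map_mul, map_inv, mul_inv_rev, inv_inv]
  simp only [mul_comm, mul_left_comm, mul_assoc]

/-- An extension of a smooth group of multiplicative type by a commutative unipotent group splits as soon as it has
a scheme theoretic section. -/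
theorem exists_retraction_of_comm_of_section (hB : SGA3b.IsMultTypeConst k B) (ψ : B →ₐc[k] A)
    (hψ : Function.Injective ψ) (J : Ideal A) [J.IsHopfIdeal k]
    (hJ : J = Ideal.map (ψ : B →+* A) (RingHom.ker (Bialgebra.counitAlgHom k B)))
    (hU : HopfRep.IsUnipotent k (A ⧸ J)) [Algebra.FormallySmooth k B] [Coalgebra.IsCocomm k (A ⧸ J)]
    (σ : A →ₐ[k] B) (hσ : σ.comp (ψ : B →ₐ[k] A) = AlgHom.id k B) :
    ∃ r : A →ₐc[k] B, r.comp ψ = BialgHom.id k B := by
  classical
  haveI : Coalgebra.IsCocomm k B := isCocomm_of_multType hB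
  let K := AlgebraicClosure k
  haveI : Normal k K := IsAlgClosure.normal k K
  obtain ⟨M, _, ⟨e⟩⟩ := H66.EtExt.isDiag_algClosed k B hB K
  haveI : Algebra.FiniteType k (A ⧸ J) :=
    Algebra.FiniteType.of_surjective (Ideal.Quotient.mkₐ k J) Ideal.Quotient.mk_surjective
  obtain ⟨rK, hrK⟩ := exists_retraction_ext hB ψ hψ J hJ hU K
  let s : Pt k B K →* Pt k A K :=
    ((bcPt (k := k) (K := K) (X := A)).symm.toMonoidHom.comp (pre rK)).comp (bcPt (k := k) (K := K) (X := B)).toMonoidHom
  have hs : ∀ (h : Pt k B K) (a : A), (s h).ofConv a = (bcPt h).ofConv (rK ((1 : K) ⊗ₜ[k] a)) := fun h a => rfl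
  have hsψ : ∀ h, pre ψ (s h) = h := fun h => WithConv.ofConv_injective (AlgHom.ext fun b => by
    show (bcPt h).ofConv (rK ((1 : K) ⊗ₜ[k] ψ b)) = h.ofConv b
    rw [show (1 : K) ⊗ₜ[k] ψ b = Bialgebra.TensorProduct.map (BialgHom.id K K) ψ ((1 : K) ⊗ₜ[k] b) from rfl, hrK,
      bcPt_apply, one_mul])
  let σ' : Pt k B K → Pt k A K := fun h => toConv (h.ofConv.comp σ)
  have hσ' : ∀ h, pre ψ (σ' h) = h := fun h => WithConv.ofConv_injective (AlgHom.ext fun b => by
    show h.ofConv (σ (ψ b)) = h.ofConv b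
    rw [show σ (ψ b) = b from AlgHom.congr_fun hσ b])
  -- the kernel
  let V : Subgroup (Pt k A K) := (pre ψ (R := K)).ker
  have hcomm : ∀ x y : Pt k A K, pre ψ x = 1 → pre ψ y = 1 → x * y = y * x := by
    intro F G hF hG
    obtain ⟨F', rfl⟩ := exists_pre_mk ψ J hJ hF
    obtain ⟨G', rfl⟩ := exists_pre_mk ψ J hJ hG
    exact ((commute_of_cocomm F' G').map _).eq
  letI : CommGroup V := { (inferInstance : Group V) with mul_comm := fun x y => Subtype.ext (hcomm _ _ x.2 y.2) }
  haveI hVn : V.Normal := MonoidHom.normal_ker _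
  let cj : Pt k B K → (V →* V) := fun g =>
    { toFun := fun x => ⟨s g * x.1 * (s g)⁻¹, hVn.conj_mem _ x.2 _⟩
      map_one' := Subtype.ext (by show s g * 1 * (s g)⁻¹ = 1; group)
      map_mul' := fun x y => Subtype.ext (by
        show s g * (x.1 * y.1) * (s g)⁻¹ = s g * x.1 * (s g)⁻¹ * (s g * y.1 * (s g)⁻¹)
        group) }
  have hroot : ∀ (R : Type u) [Field R] [Algebra k R] {N : ℕ}, (N : k) ≠ 0 →
      (∀ x y : Pt k A R, pre ψ x = 1 → pre ψ y = 1 → x ^ N = y ^ N → x = y) ∧
      (∀ y : Pt k A R, pre ψ y = 1 → ∃ x, pre ψ x = 1 ∧ x ^ N = y) := by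
    intro R _ _ N hN
    refine ⟨fun x y hx hy hxy => ?_, fun y hy => ?_⟩
    · obtain ⟨x', rfl⟩ := exists_pre_mk ψ J hJ hx
      obtain ⟨y', rfl⟩ := exists_pre_mk ψ J hJ hy
      refine congrArg _ ((pow_bijective_ext (K := R) hU hN).1 (pre_mk_injective J ?_))
      simpa only [map_pow] using hxy
    · obtain ⟨y', rfl⟩ := exists_pre_mk ψ J hJ hy
      obtain ⟨x', hx'⟩ := (pow_bijective_ext (K := R) hU hN).2 y'
      exact ⟨_, pre_psi_pre_mk ψ J hJ x', by rw [← map_pow]; exact congrArg _ hx'⟩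
  have hrootV : ∀ {N : ℕ}, (N : k) ≠ 0 → Function.Bijective fun x : V => x ^ N := fun {N} hN =>
    ⟨fun x y h => Subtype.ext ((hroot K hN).1 _ _ x.2 y.2 (congrArg Subtype.val h)), fun y => by
      obtain ⟨x, hx, hxy⟩ := (hroot K hN).2 y.1 y.2
      exact ⟨⟨x, hx⟩, Subtype.ext hxy⟩⟩
  -- separable values
  let L := separableClosure k K
  let S : Subgroup (Pt k A K) := (post (X := A) L.val).range
  have hpinj : ∀ {X : Type u} [CommRing X] [HopfAlgebra k X], Function.Injective (post (X := X) L.val) :=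
    fun {X} _ _ F G h => WithConv.ofConv_injective (AlgHom.ext fun x => L.val.injective
      (congrArg (fun T : Pt k X K => T.ofConv x) h))
  have hSroot : ∀ {N : ℕ}, (N : k) ≠ 0 → ∀ x : V, (x : Pt k A K) ^ N ∈ S → (x : Pt k A K) ∈ S := by
    rintro N hN x ⟨y, hy⟩
    have hy1 : pre ψ y = 1 := by
      refine hpinj ?_
      rw [map_one]
      exact (congrArg (pre ψ) hy).trans ((map_pow _ _ _).trans (by rw [show pre ψ (x : Pt k A K) = 1 from x.2, one_pow]))
    obtain ⟨z, hz, hzy⟩ := (hroot L hN).2 y hy1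
    refine ⟨z, (hroot K hN).1 _ _ ?_ x.2 ?_⟩
    · exact (congrArg (post L.val) hz).trans (map_one _)
    · rw [← map_pow, hzy, hy]
  -- torsion
  let G : ℕ → Subgroup (Pt k B K) := fun n =>
    { carrier := {h | h ^ n = 1}
      one_mem' := one_pow n
      mul_mem' := fun {a b} ha hb => by
        show (a * b) ^ n = 1
        rw [(commute_of_cocomm a b).mul_pow, show a ^ n = 1 from ha, show b ^ n = 1 from hb, one_mul]
      inv_mem' := fun {a} ha => by
        show a⁻¹ ^ n = 1
        rw [inv_pow, show a ^ n = 1 from ha, inv_one] }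
  have hσS : ∀ {n : ℕ}, (n : k) ≠ 0 → ∀ h ∈ G n, σ' h ∈ S := by
    intro n hn h hh
    exact ⟨toConv (AlgHom.codRestrict (h.ofConv.comp σ) L.toSubalgebra fun a =>
        mem_separableClosure_iff.2 (isSeparable_of_pow_eq_one h hn hh _)),
      WithConv.ofConv_injective (AlgHom.ext fun a => rfl)⟩
  let gal : (K ≃ₐ[k] K) → ∀ {X : Type u} [CommRing X] [HopfAlgebra k X], Pt k X K →* Pt k X K :=
    fun τ {X} _ _ => post (τ : K →ₐ[k] K)
  have hmem : ∀ (τ : K ≃ₐ[k] K) {n : ℕ} {h : Pt k B K}, h ∈ G n → gal τ h ∈ G n := fun τ {n h} hh => by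
    show gal τ h ^ n = 1
    rw [← map_pow, show h ^ n = 1 from hh, map_one]
  let Good : ℕ → Pt k A K → Prop := fun n u => pre ψ u = 1 ∧ ∀ g ∈ G n,
    u * s g * u⁻¹ ∈ S ∧ ∀ τ : K ≃ₐ[k] K, gal τ (u * s g * u⁻¹) = u * s (gal τ g) * u⁻¹
  let τV : (K ≃ₐ[k] K) → (V →* V) := fun τ =>
    { toFun := fun x => ⟨gal τ x.1, (congrArg (post (τ : K →ₐ[k] K)) (show pre ψ x.1 = 1 from x.2)).trans (map_one _)⟩
      map_one' := Subtype.ext (map_one _)
      map_mul' := fun x y => Subtype.ext (map_mul _ _ _) }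
  have hfin : ∀ {n : ℕ}, (n : k) ≠ 0 → Finite (G n) := fun {n} hn =>
    (finite_torsion e (Nat.pos_of_ne_zero fun h => hn (by rw [h, Nat.cast_zero]))).to_subtype
  -- averaging
  have hex : ∀ n : ℕ, (n : k) ≠ 0 → ∃ u, Good n u := by
    intro n hn
    haveI := hfin hn
    haveI : Fintype (G n) := Fintype.ofFinite _
    let N := Fintype.card (G n)
    have hN : (N : k) ≠ 0 := natCast_card_ne_zero hn (G n) fun x => x.2
    let c : Pt k B K → V := fun h => ⟨σ' h * (s h)⁻¹, by
      show pre ψ (σ' h * (s h)⁻¹) = 1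
      rw [map_mul, map_inv, hσ', hsψ, mul_inv_cancel]⟩
    let f : Pt k B K → Pt k B K → V := fun g h => c g * cj g (c h) * (c (g * h))⁻¹
    have hf : ∀ g h, (f g h : Pt k A K) = σ' g * σ' h * (σ' (g * h))⁻¹ := fun g h => by
      show σ' g * (s g)⁻¹ * (s g * (σ' h * (s h)⁻¹) * (s g)⁻¹) * (σ' (g * h) * (s (g * h))⁻¹)⁻¹ = _
      rw [map_mul]
      group
    let F : Pt k B K → V := fun g => ∏ h : G n, f g h.1
    let t : V := ∏ h : G n, c h.1
    obtain ⟨u, hu⟩ := (hrootV hN).2 t
    have hF : ∀ g : G n, F g.1 = c g.1 ^ N * cj g.1 t * t⁻¹ := by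
      intro g
      have h1 : ∏ h : G n, c (g.1 * h.1) = t :=
        Fintype.prod_equiv (Equiv.mulLeft g) _ _ fun h => rfl
      show ∏ h : G n, c g.1 * cj g.1 (c h.1) * (c (g.1 * h.1))⁻¹ = _
      rw [Finset.prod_mul_distrib, Finset.prod_mul_distrib, Finset.prod_inv_distrib, h1, Finset.prod_const,
        Finset.card_univ, ← map_prod]
    let d : Pt k B K → V := fun g => u * (cj g u)⁻¹ * (c g)⁻¹
    have hd : ∀ g, (d g : Pt k A K) * σ' g = u.1 * s g * (u.1)⁻¹ := fun g => by
      show u.1 * (s g * u.1 * (s g)⁻¹)⁻¹ * (σ' g * (s g)⁻¹)⁻¹ * σ' g = _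
      group
    have hdN : ∀ g : G n, d g.1 ^ N = (F g.1)⁻¹ := fun g => by
      have hu' : u ^ N = t := hu
      rw [hF, mul_pow, mul_pow, inv_pow, inv_pow, ← map_pow, hu', mul_inv_rev, mul_inv_rev, inv_inv, mul_assoc]
    have hτσ : ∀ (τ : K ≃ₐ[k] K) h, gal τ (σ' h) = σ' (gal τ h) := fun τ h => rfl
    have hτF : ∀ (τ : K ≃ₐ[k] K) g, τV τ (F g) = F (gal τ g) := by
      intro τ g
      let π : G n → G n := fun h => ⟨gal τ h.1, hmem τ h.2⟩
      have hπ : Function.Bijective π := Finite.injective_iff_bijective.1 fun a b hab =>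
        Subtype.ext (WithConv.ofConv_injective (AlgHom.ext fun x => τ.injective
          (congrArg (fun T : Pt k B K => T.ofConv x) (congrArg Subtype.val hab))))
      rw [map_prod]
      refine Fintype.prod_bijective π hπ _ _ fun h => Subtype.ext ?_
      show gal τ (f g h.1 : Pt k A K) = (f (gal τ g) (gal τ h.1) : Pt k A K)
      rw [hf, hf, map_mul, map_mul, map_inv, hτσ, hτσ, hτσ, map_mul]
    refine ⟨u, u.2, fun g hg => ⟨?_, fun τ => ?_⟩⟩
    · rw [← hd]
      refine mul_mem (hSroot hN _ ?_) (hσS hn g hg)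
      rw [← Subgroup.coe_pow, hdN ⟨g, hg⟩, Subgroup.coe_inv]
      refine inv_mem ?_
      have : F g ∈ S.comap V.subtype := prod_mem fun h _ => by
        show (f g h.1 : Pt k A K) ∈ S
        rw [hf]
        exact mul_mem (mul_mem (hσS hn g hg) (hσS hn h.1 h.2)) (inv_mem (hσS hn _ (mul_mem hg h.2)))
      exact this
    · rw [← hd, ← hd, map_mul, hτσ]
      congr 1
      refine congrArg Subtype.val (show τV τ (d g) = d (gal τ g) from (hrootV hN).1 ?_)
      show (τV τ (d g)) ^ N = d (gal τ g) ^ N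
      rw [← map_pow, hdN ⟨g, hg⟩, hdN ⟨gal τ g, hmem τ hg⟩, map_inv, hτF]
  -- compatibility of two levels
  have hcomp : ∀ (n m : ℕ) (u w : Pt k A K), (n : k) ≠ 0 → G n ≤ G m → Good n u → Good m w →
      ∃ w', Good m w' ∧ ∀ g ∈ G n, w' * s g * w'⁻¹ = u * s g * u⁻¹ := by
    intro n m u w hn hle hgu hgw
    haveI := hfin hn
    haveI : Fintype (G n) := Fintype.ofFinite _
    let N := Fintype.card (G n)
    have hN : (N : k) ≠ 0 := natCast_card_ne_zero hn (G n) fun x => x.2
    let x : V := ⟨u * w⁻¹, mul_mem (show u ∈ V from hgu.1) (inv_mem (show w ∈ V from hgw.1))⟩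
    let t : V := ∏ h : G n, cj h.1 x
    obtain ⟨y, hy⟩ := (hrootV hN).2 t
    have hyfix : ∀ g : G n, cj g.1 y = y := by
      intro g
      refine (hrootV hN).1 ?_
      show cj g.1 y ^ N = y ^ N
      rw [← map_pow, show y ^ N = t from hy, map_prod]
      refine Fintype.prod_equiv (Equiv.mulLeft g) _ _ fun h => Subtype.ext ?_
      show s g.1 * (s h.1 * x.1 * (s h.1)⁻¹) * (s g.1)⁻¹ = s (g.1 * h.1) * x.1 * (s (g.1 * h.1))⁻¹
      rw [map_mul]
      group
    let c' : Pt k B K → V := fun g => x * (cj g x)⁻¹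
    have hwV : ∀ g, (⟨s g * w * (s g)⁻¹, hVn.conj_mem _ hgw.1 _⟩ : V) = cj g ⟨w, hgw.1⟩ := fun g => rfl
    have hc' : ∀ g, (c' g : Pt k A K) = (u * s g * u⁻¹) * (w * s g * w⁻¹)⁻¹ := by
      intro g
      let uV : V := ⟨u, hgu.1⟩
      let wV : V := ⟨w, hgw.1⟩
      have h1 : c' g = uV * (cj g uV)⁻¹ * cj g wV * wV⁻¹ := by
        exact cob_aux (cj g) uV wV
      rw [h1]
      show u * (s g * u * (s g)⁻¹)⁻¹ * (s g * w * (s g)⁻¹) * w⁻¹ = _
      group
    let ee : V := x * y⁻¹
    have heN : ee ^ N = ∏ h : G n, c' h.1 := by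
      rw [Finset.prod_mul_distrib, Finset.prod_inv_distrib, Finset.prod_const, Finset.card_univ, mul_pow, inv_pow,
        show y ^ N = t from hy]
    have heS : (ee : Pt k A K) ∈ S := by
      refine hSroot hN _ ?_
      rw [← Subgroup.coe_pow, heN]
      have : (∏ h : G n, c' h.1) ∈ S.comap V.subtype := prod_mem fun h _ => by
        show (c' h.1 : Pt k A K) ∈ S
        rw [hc']
        exact mul_mem (hgu.2 h.1 h.2).1 (inv_mem (hgw.2 h.1 (hle h.2)).1)
      exact this
    have heτ : ∀ τ : K ≃ₐ[k] K, gal τ (ee : Pt k A K) = ee := by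
      intro τ
      refine congrArg Subtype.val (show τV τ ee = ee from (hrootV hN).1 ?_)
      show τV τ ee ^ N = ee ^ N
      rw [← map_pow, heN, map_prod]
      let π : G n → G n := fun h => ⟨gal τ h.1, hmem τ h.2⟩
      have hπ : Function.Bijective π := Finite.injective_iff_bijective.1 fun a b hab =>
        Subtype.ext (WithConv.ofConv_injective (AlgHom.ext fun x => τ.injective
          (congrArg (fun T : Pt k B K => T.ofConv x) (congrArg Subtype.val hab))))
      refine Fintype.prod_bijective π hπ _ _ fun h => Subtype.ext ?_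
      show gal τ (c' h.1 : Pt k A K) = (c' (gal τ h.1) : Pt k A K)
      rw [hc', hc', map_mul, map_inv, (hgu.2 h.1 h.2).2 τ, (hgw.2 h.1 (hle h.2)).2 τ]
    refine ⟨ee.1 * w, ⟨mul_mem (show (ee : Pt k A K) ∈ V from ee.2) (show w ∈ V from hgw.1), fun g hg => ?_⟩,
      fun g hg => ?_⟩
    · have h1 : ee.1 * w * s g * (ee.1 * w)⁻¹ = ee.1 * (w * s g * w⁻¹) * (ee.1)⁻¹ := by group
      refine ⟨h1 ▸ mul_mem (mul_mem heS (hgw.2 g hg).1) (inv_mem heS), fun τ => ?_⟩
      rw [h1, map_mul, map_mul, map_inv, heτ, (hgw.2 g hg).2 τ]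
      group
    · have h2 : ee * (cj g ee)⁻¹ = c' g := by
        show x * y⁻¹ * (cj g (x * y⁻¹))⁻¹ = x * (cj g x)⁻¹
        rw [map_mul, map_inv, hyfix ⟨g, hg⟩, mul_inv_rev, inv_inv, mul_assoc, inv_mul_cancel_left]
      have h3 := congrArg Subtype.val h2
      rw [hc'] at h3
      replace h3 : ee.1 * (s g * ee.1 * (s g)⁻¹)⁻¹ = u * s g * u⁻¹ * (w * s g * w⁻¹)⁻¹ := h3
      let ws : V := ⟨s g * ee.1⁻¹ * (s g)⁻¹, hVn.conj_mem _ (inv_mem ee.2) _⟩
      have h4 : w * ws.1 = ws.1 * w := hcomm _ _ hgw.1 ws.2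
      calc ee.1 * w * s g * (ee.1 * w)⁻¹ = ee.1 * (w * s g) * w⁻¹ * ee.1⁻¹ := by group
        _ = ee.1 * (s g * ee.1 * (s g)⁻¹)⁻¹ * (w * s g * w⁻¹) := by
          have h5 : w * s g * w⁻¹ * ee.1⁻¹ = ws.1 * (w * s g * w⁻¹) := by
            have h6 : Commute w⁻¹ ee.1⁻¹ := (show Commute w ee.1 from hcomm _ _ hgw.1 ee.2).inv_inv
            calc w * s g * w⁻¹ * ee.1⁻¹ = w * s g * (w⁻¹ * ee.1⁻¹) := by group
              _ = w * ws.1 * (s g * w⁻¹) := by rw [h6.eq]; simp only [ws]; group
              _ = _ := by rw [h4]; group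
          calc ee.1 * (w * s g) * w⁻¹ * ee.1⁻¹ = ee.1 * (w * s g * w⁻¹ * ee.1⁻¹) := by group
            _ = _ := by rw [h5]; simp only [ws]; group
        _ = _ := by rw [h3]; group
  -- stabilisation
  let Z : ℕ → Set (Pt k A K) := fun n => {v | pre ψ v = 1 ∧ ∀ h ∈ G n, v * s h = s h * v}
  let I : ℕ → Ideal (K ⊗[k] A) := fun n => ⨅ v ∈ Z n, RingHom.ker ((bcPt v).ofConv : K ⊗[k] A →+* K)
  haveI : IsNoetherianRing (K ⊗[k] A) := Algebra.FiniteType.isNoetherianRing K _
  obtain ⟨J₀, ⟨⟨n₀, hn₀⟩, hJ₀⟩, hmax⟩ := set_has_maximal_iff_noetherian.2 inferInstance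
    (Set.range fun n : {n : ℕ // (n : k) ≠ 0} => I n.1) ⟨_, ⟨⟨1, by simp⟩, rfl⟩⟩
  subst hJ₀
  obtain ⟨u, hu⟩ := hex n₀ hn₀
  have hall : ∀ n : ℕ, (n : k) ≠ 0 → Good n u := by
    intro n hn
    let m : ℕ := n₀ * n
    have hm : (m : k) ≠ 0 := by rw [Nat.cast_mul]; exact mul_ne_zero hn₀ hn
    have hsub0 : G n₀ ≤ G m := fun g hg => by
      show g ^ (n₀ * n) = 1
      rw [pow_mul, show g ^ n₀ = 1 from hg, one_pow]
    have hsub : G n ≤ G m := fun g hg => by
      show g ^ (n₀ * n) = 1
      rw [mul_comm, pow_mul, show g ^ n = 1 from hg, one_pow]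
    have hI : I n₀ = I m := by
      have hle : I n₀ ≤ I m := le_iInf₂ fun v hv => iInf₂_le v ⟨hv.1, fun g hg => hv.2 g (hsub0 hg)⟩
      rcases eq_or_lt_of_le hle with h1 | h1
      · exact h1
      · exact absurd h1 (hmax (I m) ⟨⟨m, hm⟩, rfl⟩)
    obtain ⟨w₀, hw₀⟩ := hex m hm
    obtain ⟨w, hw, hwu⟩ := hcomp n₀ m u w₀ hn₀ hsub0 hu hw₀
    have hv : w⁻¹ * u ∈ Z n₀ := ⟨by rw [map_mul, map_inv, hw.1, hu.1, inv_one, one_mul], fun g hg => by
      calc w⁻¹ * u * s g = w⁻¹ * (u * s g * u⁻¹) * u := by group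
        _ = _ := by rw [← hwu g hg]; group⟩
    have hvm : ∀ g ∈ G m, w⁻¹ * u * s g = s g * (w⁻¹ * u) := by
      intro g hg
      refine WithConv.ofConv_injective (AlgHom.ext fun a => ?_)
      let D : A →ₗ[k] K ⊗[k] A :=
        ((s g).ofConv.toLinearMap.rTensor A ∘ₗ (TensorProduct.comm k A A).toLinearMap ∘ₗ CoalgebraStruct.comul) -
          ((s g).ofConv.toLinearMap.rTensor A ∘ₗ CoalgebraStruct.comul)
      have hD : ∀ v : Pt k A K, (v * s g).ofConv a - (s g * v).ofConv a = (bcPt v).ofConv (D a) := by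
        intro v
        show (v * s g) a - (s g * v) a = _
        rw [AlgHom.convMul_apply, AlgHom.convMul_apply]
        simp only [D, LinearMap.sub_apply, LinearMap.comp_apply, LinearEquiv.coe_coe, map_sub]
        congr 1
        · generalize CoalgebraStruct.comul (R := k) a = z
          induction z using TensorProduct.induction_on with
          | zero => simp
          | add p q hp hq => simp only [map_add, hp, hq]
          | tmul x y => simp [bcPt_apply, mul_comm]
        · generalize CoalgebraStruct.comul (R := k) a = z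
          induction z using TensorProduct.induction_on with
          | zero => simp
          | add p q hp hq => simp only [map_add, hp, hq]
          | tmul x y => simp [bcPt_apply]
      refine sub_eq_zero.1 ((hD _).trans ?_)
      have hmem : D a ∈ I n₀ := by
        rw [hI]
        simp only [I, Submodule.mem_iInf, RingHom.mem_ker]
        intro v hv
        exact (hD v).symm.trans (by rw [hv.2 g hg, sub_self])
      simp only [I, Submodule.mem_iInf, RingHom.mem_ker] at hmem
      exact hmem _ hv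
    have heq : ∀ g ∈ G m, u * s g * u⁻¹ = w * s g * w⁻¹ := fun g hg => by
      calc u * s g * u⁻¹ = w * (w⁻¹ * u * s g) * u⁻¹ := by group
        _ = _ := by rw [hvm g hg]; group
    refine ⟨hu.1, fun g hg => ?_⟩
    rw [heq g (hsub hg)]
    refine ⟨(hw.2 g (hsub hg)).1, fun τ => ?_⟩
    rw [(hw.2 g (hsub hg)).2 τ, heq _ (hmem τ (hsub hg))]
  -- descent
  let s' : Pt k B K →* Pt k A K :=
    { toFun := fun h => u * s h * u⁻¹
      map_one' := by rw [map_one]; group
      map_mul' := fun g h => by rw [map_mul]; group }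
  let inK : Pt k A K →* Pt k A (K ⊗[k] B) := post Algebra.TensorProduct.includeLeft
  let R : Pt k A (K ⊗[k] B) :=
    toConv ((rK : K ⊗[k] A →ₐ[K] K ⊗[k] B).restrictScalars k |>.comp Algebra.TensorProduct.includeRight)
  let Q : Pt k A (K ⊗[k] B) := inK u * R * (inK u)⁻¹
  have hQ : ∀ h, post ((bcPt h).ofConv.restrictScalars k) Q = s' h := by
    intro h
    have h1 : post ((bcPt h).ofConv.restrictScalars k) (inK u) = u :=
      WithConv.ofConv_injective (AlgHom.ext fun a => by
        show (bcPt h).ofConv (u.ofConv a ⊗ₜ[k] (1 : B)) = u.ofConv a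
        rw [bcPt_apply, map_one, mul_one])
    show post ((bcPt h).ofConv.restrictScalars k) (inK u * R * (inK u)⁻¹) = _
    rw [map_mul, map_mul, post_inv, h1]
    rfl
  have hQa : ∀ h a, (bcPt h).ofConv (Q.ofConv a) = (s' h).ofConv a := fun h a =>
    congrArg (fun T : Pt k A K => T.ofConv a) (hQ h)
  have hdesc : ∀ a, ∃ b, (1 : K) ⊗ₜ[k] b = Q.ofConv a := fun a => by
    refine exists_one_tmul e (fun n h hn hh => ?_) (fun τ n h hn hh => ?_)
    · rw [hQa]
      obtain ⟨y, hy⟩ := ((hall n hn).2 h hh).1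
      show IsSeparable k ((u * s h * u⁻¹).ofConv a)
      rw [← hy]
      exact mem_separableClosure_iff.1 (y.ofConv a).2
    · rw [hQa, hQa]
      exact (congrArg (fun T : Pt k A K => T.ofConv a) (((hall n hn).2 h hh).2 τ)).symm
  choose f hf using hdesc
  have hincl : Function.Injective (fun b : B => (1 : K) ⊗ₜ[k] b) :=
    Algebra.TensorProduct.includeRight_injective (R := k) (A := K) (B := B) (algebraMap k K).injective
  let r₀ : A →ₐ[k] B :=
    { toFun := f
      map_one' := hincl (by show (1 : K) ⊗ₜ[k] f 1 = (1 : K) ⊗ₜ[k] (1 : B); rw [hf, map_one]; rfl)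
      map_mul' := fun a b => hincl (by
        show (1 : K) ⊗ₜ[k] f (a * b) = (1 : K) ⊗ₜ[k] (f a * f b)
        rw [show (1 : K) ⊗ₜ[k] (f a * f b) = ((1 : K) ⊗ₜ[k] f a) * ((1 : K) ⊗ₜ[k] f b) by
          rw [Algebra.TensorProduct.tmul_mul_tmul, one_mul], hf, hf, hf, map_mul])
      map_zero' := hincl (by show (1 : K) ⊗ₜ[k] f 0 = (1 : K) ⊗ₜ[k] (0 : B); rw [hf, map_zero, TensorProduct.tmul_zero])
      map_add' := fun a b => hincl (by
        show (1 : K) ⊗ₜ[k] f (a + b) = (1 : K) ⊗ₜ[k] (f a + f b)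
        rw [hf, TensorProduct.tmul_add, hf, hf, map_add])
      commutes' := fun c => hincl (by
        show (1 : K) ⊗ₜ[k] f (algebraMap k A c) = (1 : K) ⊗ₜ[k] algebraMap k B c
        rw [hf, AlgHom.commutes]
        exact ((Algebra.TensorProduct.includeRight (R := k) (A := K) (B := B)).commutes c).symm) }
  have hr₀ : ∀ h : Pt k B K, post h.ofConv (toConv r₀) = s' h := fun h =>
    WithConv.ofConv_injective (AlgHom.ext fun a => by
      show h.ofConv (f a) = _
      rw [← hQa, ← hf, bcPt_apply, one_mul])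
  let r : A →ₐc[k] B := BialgHom.ofAlgHom r₀
    (AlgHom.ext fun a => by
      apply (algebraMap k K).injective
      have h1 := congrArg (fun T : Pt k A K => T.ofConv a) ((hr₀ 1).trans (map_one s'))
      exact h1)
    (AlgHom.ext fun a => by
      refine eq_of_forall_torsion_pairs e fun n m g h hn hg hm hh => ?_
      show Algebra.TensorProduct.lift g.ofConv h.ofConv (fun _ _ => Commute.all _ _)
          (Algebra.TensorProduct.map r₀ r₀ (CoalgebraStruct.comul (R := k) a)) =
        Algebra.TensorProduct.lift g.ofConv h.ofConv (fun _ _ => Commute.all _ _)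
          (CoalgebraStruct.comul (R := k) (r₀ a))
      have h2 : (g * h).ofConv (r₀ a) = (post g.ofConv (toConv r₀) * post h.ofConv (toConv r₀)).ofConv a := by
        rw [hr₀, hr₀, ← map_mul, ← hr₀]
        rfl
      refine Eq.trans ?_ (h2.symm.trans (AlgHom.convMul_apply g h (r₀ a)))
      refine Eq.trans ?_ (AlgHom.convMul_apply (post g.ofConv (toConv r₀)) (post h.ofConv (toConv r₀)) a).symm
      generalize CoalgebraStruct.comul (R := k) a = z
      induction z using TensorProduct.induction_on with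
      | zero => simp
      | add p q hp hq => simp only [map_add, hp, hq]
      | tmul x y => simp [post_apply])
  refine ⟨r, BialgHom.ext fun b => sub_eq_zero.1 (eq_zero_of_forall_torsion e fun n h hn hh => ?_)⟩
  rw [map_sub, sub_eq_zero]
  have h1 : pre ψ (s' h) = h := by
    show pre ψ (u * s h * u⁻¹) = h
    rw [map_mul, map_mul, map_inv, hu.1, hsψ]
    group
  refine Eq.trans (congrArg (fun T : Pt k A K => T.ofConv (ψ b)) (hr₀ h)) ?_
  exact congrArg (fun T : Pt k B K => T.ofConv b) h1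

end

end Groth.Agent.H66.ConjRat
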