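import Groth.Agent.H66.UnipPow
import Groth.Agent.H66.UnipBC
import Groth.Agent.H66.MultExt.Central
import Mathlib

/-!
Roots of points of unipotent groups; points after extension of scalars.
-/

set_option autoImplicit false
set_option linter.style.haveILetI false
universe u

namespace Groth.Agent.H66.ConjRat

open TensorProduct WithConv Groth.Agent.H66.MultExt

noncomputable section

/-- The power maps prime to the characteristic are bijective on the rational points of a unipotent group. -/
theorem pow_bijective {k : Type u} [Field k] {A : Type u} [CommRing A] [HopfAlgebra k A] [Algebra.FiniteType k A]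
    (hU : HopfRep.IsUnipotent k A) {e : ℕ} (he : (e : k) ≠ 0) :
    Function.Bijective fun g : Pt k A k => g ^ e := by
  obtain ⟨p, hp⟩ := CharP.exists k
  have he0 : e ≠ 0 := fun h => he (by rw [h, Nat.cast_zero])
  rcases CharP.char_is_prime_or_zero k p with hpp | rfl
  · haveI := Fact.mk hpp
    have hdvd : ¬ p ∣ e := fun h => he ((CharP.cast_eq_zero_iff k p e).2 h)
    have key : ∀ r : ℕ, ∃ e' q : ℕ, e * e' = p ^ r * q + 1 := by
      intro r
      rcases Nat.eq_zero_or_pos r with rfl | hr
      · exact ⟨1, e - 1, by simp only [pow_zero]; omega⟩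
      · obtain ⟨e', he'⟩ := Nat.exists_mul_mod_eq_one_of_coprime
          ((Nat.Coprime.pow_right r ((Nat.Prime.coprime_iff_not_dvd hpp).2 hdvd).symm))
          (Nat.one_lt_pow hr.ne' hpp.one_lt)
        exact ⟨e', e * e' / p ^ r, by have := Nat.div_add_mod (e * e') (p ^ r); omega⟩
    refine ⟨fun g h hgh => ?_, fun g => ?_⟩
    · obtain ⟨r, hr⟩ := Groth.Agent.H66.UnipPow.exists_pow_eq_one p hU g
      obtain ⟨s, hs⟩ := Groth.Agent.H66.UnipPow.exists_pow_eq_one p hU h
      obtain ⟨e', q, hq⟩ := key (r + s)
      have h1 : g ^ (e * e') = h ^ (e * e') := by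
        rw [pow_mul, pow_mul]; exact congrArg (· ^ e') hgh
      have h2 : g ^ p ^ (r + s) = 1 := by rw [pow_add p, pow_mul, hr, one_pow]
      have h3 : h ^ p ^ (r + s) = 1 := by rw [pow_add p, Nat.mul_comm, pow_mul, hs, one_pow]
      rwa [hq, pow_succ, pow_succ, pow_mul, pow_mul, h2, h3, one_pow, one_mul, one_mul] at h1
    · obtain ⟨r, hr⟩ := Groth.Agent.H66.UnipPow.exists_pow_eq_one p hU g
      obtain ⟨e', q, hq⟩ := key r
      refine ⟨g ^ e', ?_⟩
      show (g ^ e') ^ e = g
      rw [← pow_mul, Nat.mul_comm, hq, pow_succ, pow_mul, hr, one_pow, one_mul]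
  · haveI : CharZero k := CharP.charP_to_charZero k
    exact Groth.Agent.H66.UnipPow.pow_bijective hU he0

/-- A point with values in `K` as a point of the base change. -/
def bcPt {k K : Type u} [Field k] [Field K] [Algebra k K] {X : Type u} [CommRing X] [HopfAlgebra k X] :
    Pt k X K ≃* Pt K (K ⊗[k] X) K where
  toFun f := toConv (Algebra.TensorProduct.lift (AlgHom.id K K) f.ofConv fun _ _ => Commute.all _ _)
  invFun F := toConv ((F.ofConv.restrictScalars k).comp Algebra.TensorProduct.includeRight)
  left_inv f := WithConv.ofConv_injective (AlgHom.ext fun x => by simp)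
  right_inv F := by
    refine WithConv.ofConv_injective (Algebra.TensorProduct.ext' fun c x => ?_)
    simp only [toConv_ofConv, Algebra.TensorProduct.lift_tmul, AlgHom.coe_comp, Function.comp_apply,
      AlgHom.restrictScalars_apply, Algebra.TensorProduct.includeRight_apply, AlgHom.id_apply]
    rw [← smul_eq_mul, ← map_smul, TensorProduct.smul_tmul', smul_eq_mul, mul_one]
  map_mul' f g := by
    refine WithConv.ofConv_injective (Algebra.TensorProduct.ext' fun c x => ?_)
    rw [Algebra.TensorProduct.lift_tmul]
    show c * (f * g) x = _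
    rw [show c ⊗ₜ[k] x = c • ((1 : K) ⊗ₜ[k] x) by rw [TensorProduct.smul_tmul', smul_eq_mul, mul_one], map_smul,
      smul_eq_mul]
    congr 1
    refine Eq.trans (AlgHom.convMul_apply f g x) (Eq.trans ?_ (AlgHom.convMul_apply _ _ ((1 : K) ⊗ₜ[k] x)).symm)
    rw [TensorProduct.comul_tmul]
    generalize CoalgebraStruct.comul (R := k) x = w
    induction w using TensorProduct.induction_on with
    | zero => simp
    | add p q hp hq => simp only [map_add, TensorProduct.tmul_add, hp, hq]
    | tmul p q => simp [TensorProduct.AlgebraTensorModule.tensorTensorTensorComm]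

theorem bcPt_apply {k K : Type u} [Field k] [Field K] [Algebra k K] {X : Type u} [CommRing X] [HopfAlgebra k X]
    (f : Pt k X K) (c : K) (x : X) : (bcPt f).ofConv (c ⊗ₜ[k] x) = c * f.ofConv x :=
  Algebra.TensorProduct.lift_tmul _ _ (fun _ _ => Commute.all _ _) _ _

/-- The power maps prime to the characteristic are bijective on the points of a unipotent group with values in an
extension field. -/
theorem pow_bijective_ext {k K : Type u} [Field k] [Field K] [Algebra k K] {A : Type u} [CommRing A] [HopfAlgebra k A]
    [Algebra.FiniteType k A] (hU : HopfRep.IsUnipotent k A) {e : ℕ} (he : (e : k) ≠ 0) :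
    Function.Bijective fun g : Pt k A K => g ^ e := by
  have h := pow_bijective (k := K) (A := K ⊗[k] A) (H66.UnipBC.isUnipotent_baseChange hU)
    (e := e) (by rw [← map_natCast (algebraMap k K)]; exact fun h => he ((algebraMap k K).injective (by rw [h, map_zero])))
  have heq : (fun g : Pt k A K => g ^ e) = (bcPt (k := k) (K := K) (X := A)).symm ∘
      (fun g : Pt K (K ⊗[k] A) K => g ^ e) ∘ bcPt := by
    funext g
    simp [← map_pow]
  rw [heq]
  exact (bcPt (k := k) (K := K) (X := A)).symm.bijective.comp (h.comp (bcPt (k := k) (K := K) (X := A)).bijective)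

end

end Groth.Agent.H66.ConjRat
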