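import Groth.Agent.H66.ConjRat.SubPts
import Groth.Agent.H66.Vec.Gen
import Groth.Agent.H66.Vec.Split
import Groth.Agent.H66.Conj.Twist
import Groth.Agent.H66.Smooth.General
import Groth.Agent.Lib.GrpQ.Coinv
import Groth.Agent.Lib.GrpQ.NormalKer
import Mathlib

/-!
The kernel of the additive functions on a connected reduced group over a perfect field is connected, and the
additive functions map the group onto a vector space.
-/

set_option autoImplicit false
set_option linter.unusedSectionVars false
set_option linter.style.haveILetI false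
universe u

namespace Groth.Agent.H66.ConjRat.Kernel

open TensorProduct WithConv Groth.Agent.H66.MultExt Groth.Agent.H66.Vec Groth.Agent.H66.ConjRat.GalPts
open Groth.Agent.Lib.GrpQ

noncomputable section

variable {k : Type u} [Field k] {R : Type u} [CommRing R] [HopfAlgebra k R]

theorem inv_eq {T : Type u} [CommRing T] [Algebra k T] (z : Pt k R T) :
    z⁻¹ = toConv (z.ofConv.comp (HopfAlgebra.antipodeAlgHom k R)) := by
  refine inv_eq_of_mul_eq_one_left ?_
  have h := AlgHom.comp_convMul_distrib z.ofConv (toConv (HopfAlgebra.antipodeAlgHom k R)) (toConv (AlgHom.id k R))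
  rw [AlgHom.antipode_id_cancel] at h
  apply WithConv.ofConv_injective
  rw [toConv_ofConv, toConv_ofConv, AlgHom.comp_id, toConv_ofConv] at h
  rw [← h]
  ext y
  simp

theorem mul_prim {T : Type u} [CommRing T] [Algebra k T] (x y : Pt k R T) {a : R} (ha : a ∈ primSub k R) :
    (x * y).ofConv a = x.ofConv a + y.ofConv a := by
  rw [AlgHom.convMul_apply, mem_primSub.1 ha]
  simp

theorem one_prim {T : Type u} [CommRing T] [Algebra k T] {a : R} (ha : a ∈ primSub k R) :
    (1 : Pt k R T).ofConv a = 0 := by
  show algebraMap k T (CoalgebraStruct.counit (R := k) a) = 0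
  rw [counit_eq_zero ha, map_zero]

theorem inv_prim {T : Type u} [CommRing T] [Algebra k T] (x : Pt k R T) {a : R} (ha : a ∈ primSub k R) :
    (x⁻¹).ofConv a = - x.ofConv a := by
  have h := mul_prim x⁻¹ x ha
  rw [inv_mul_cancel, one_prim ha] at h
  exact eq_neg_of_add_eq_zero_left h.symm

theorem pow_prim {T : Type u} [CommRing T] [Algebra k T] (x : Pt k R T) {a : R} (ha : a ∈ primSub k R) (n : ℕ) :
    (x ^ n).ofConv a = n • x.ofConv a := by
  induction n with
  | zero => rw [pow_zero, one_prim ha, zero_smul]
  | succ n ih => rw [pow_succ, mul_prim _ _ ha, ih, succ_nsmul]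

variable [Algebra.FiniteType k R] {K : Type u} [Field K] [Algebra k K] [IsAlgClosed K] [Algebra.IsAlgebraic k K]

/-- Points on which all additive functions vanish. -/
def primZero (k : Type u) [Field k] (R : Type u) [CommRing R] [HopfAlgebra k R] (K : Type u) [Field K] [Algebra k K] :
    Set (R →ₐ[k] K) := {z | ∀ a ∈ primSub k R, z a = 0}

theorem isStable_primZero : IsStable (primZero k R K) := fun σ z hz a ha => by
  show σ (z a) = 0
  rw [hz a ha, map_zero]

variable [PerfectField k]

/-- Evaluation of a universal expression. -/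
def evPt {X : Type u} [CommRing X] [Algebra k X] (z : X →ₐ[k] K) : Pt k R (K ⊗[k] X) →* Pt k R K :=
  post ((ev z).restrictScalars k)

/-- The universal point. -/
def univPt {X : Type u} [CommRing X] [Algebra k X] (q : R →ₐ[k] X) : Pt k R (K ⊗[k] X) :=
  toConv ((Algebra.TensorProduct.includeRight : X →ₐ[k] K ⊗[k] X).comp q)

/-- A constant point. -/
def cstPt (X : Type u) [CommRing X] [Algebra k X] : Pt k R K →* Pt k R (K ⊗[k] X) :=
  post (Algebra.TensorProduct.includeLeft : K →ₐ[k] K ⊗[k] X)

theorem evPt_univPt {X : Type u} [CommRing X] [Algebra k X] (z : X →ₐ[k] K) (q : R →ₐ[k] X) :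
    evPt z (univPt q) = toConv (z.comp q) :=
  WithConv.ofConv_injective (AlgHom.ext fun a => by simp [evPt, univPt, post_apply])

theorem evPt_cstPt {X : Type u} [CommRing X] [Algebra k X] (z : X →ₐ[k] K) (y : Pt k R K) :
    evPt z (cstPt X y) = y :=
  WithConv.ofConv_injective (AlgHom.ext fun a => by simp [evPt, cstPt, post_apply])

variable [IsReduced R] {p : ℕ} [Fact p.Prime] [CharP k p]

include p in
/-- **The kernel of the additive functions is a connected subgroup.** -/
theorem kernel_connected (hconn : ∀ e : R, IsIdempotentElem e → e = 0 ∨ e = 1) :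
    ∀ e : R, e * e - e ∈ vanish (primZero k R K) → e ∈ vanish (primZero k R K) ∨ 1 - e ∈ vanish (primZero k R K) := by
  classical
  haveI : IsNoetherianRing R := Algebra.FiniteType.isNoetherianRing k R
  haveI : CharP K p := charP_of_injective_algebraMap (algebraMap k K).injective p
  let one' : R →ₐ[k] K := (1 : Pt k R K).ofConv
  have hone : one' ∈ primZero k R K := fun a ha => one_prim ha
  let E : Set R := {e | (∀ z ∈ primZero k R K, z e * z e = z e) ∧ one' e = 1}
  let P : R → Set (R →ₐ[k] K) := fun e => {z | z ∈ primZero k R K ∧ z e = 1}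
  obtain ⟨I, ⟨⟨e, he⟩, hI⟩, hmax⟩ := set_has_maximal_iff_noetherian.2 inferInstance
    (Set.range fun e : E => vanish (P e.1)) ⟨_, ⟨⟨1, fun z _ => by simp, map_one _⟩, rfl⟩⟩
  subst hI
  let S := P e
  have hS : IsStable S := fun σ z hz => ⟨isStable_primZero σ z hz.1, by
    show σ (z e) = 1
    rw [hz.2, map_one]⟩
  have h1S : one' ∈ S := ⟨hone, he.2⟩
  -- the points of the candidate
  have hV : ∀ z : R →ₐ[k] K, (∀ a ∈ vanish S, z a = 0) → z ∈ S := by
    intro z hz
    refine ⟨fun a ha => hz a (mem_vanish.2 fun y hy => hy.1 a ha), ?_⟩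
    have := hz (1 - e) (mem_vanish.2 fun y hy => by rw [map_sub, map_one, hy.2, sub_self])
    rw [map_sub, map_one, sub_eq_zero] at this
    exact this.symm
  have hSN : S ⊆ primZero k R K := fun z hz => hz.1
  let q : R →ₐ[k] R ⧸ vanish S := Ideal.Quotient.mkₐ k (vanish S)
  have hqS : ∀ x : R ⧸ vanish S →ₐ[k] K, x.comp q ∈ S := fun x => hV _ fun a ha => by
    show x (Ideal.Quotient.mk (vanish S) a) = 0
    rw [Ideal.Quotient.eq_zero_iff_mem.2 ha, map_zero]
  haveI : IsReduced (R ⧸ vanish S) := ⟨fun b ⟨n, hb⟩ => by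
    obtain ⟨a, rfl⟩ := Ideal.Quotient.mk_surjective b
    rw [← map_pow, Ideal.Quotient.eq_zero_iff_mem] at hb
    refine Ideal.Quotient.eq_zero_iff_mem.2 (mem_vanish.2 fun z hz => ?_)
    have := mem_vanish.1 hb z hz
    rw [map_pow] at this
    exact eq_zero_of_pow_eq_zero this⟩
  let x₀ : R →ₐ[k] k := Bialgebra.counitAlgHom k R
  have hx₀ : ∀ a ∈ vanish S, x₀ a = 0 := fun a ha => (algebraMap k K).injective (by
    rw [map_zero]
    exact mem_vanish.1 ha one' h1S)
  let x₀' : R ⧸ vanish S →ₐ[k] k := Ideal.Quotient.liftₐ _ x₀ hx₀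
  -- the candidate is connected
  have hSconn : ∀ f : R, f * f - f ∈ vanish S → f ∈ vanish S ∨ 1 - f ∈ vanish S := by
    intro f hf
    wlog hf1 : one' f = 1 generalizing f
    · have h := mem_vanish.1 hf one' h1S
      rw [map_sub, map_mul, sub_eq_zero] at h
      have hf0 : one' f = 0 := by
        rcases IsIdempotentElem.iff_eq_zero_or_one.1 (show IsIdempotentElem (one' f) from h) with h0 | h0
        · exact h0
        · exact absurd h0 hf1
      rcases this (1 - f) (by
        rw [show (1 - f) * (1 - f) - (1 - f) = f * f - f by ring]; exact hf) (by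
        rw [map_sub, map_one, hf0, sub_zero]) with h0 | h0
      · exact Or.inr h0
      · rw [sub_sub_cancel] at h0; exact Or.inl h0
    right
    have hE : f * e ∈ E := by
      refine ⟨fun z hz => ?_, by rw [map_mul, hf1, show one' e = 1 from he.2, mul_one]⟩
      rw [map_mul]
      rcases IsIdempotentElem.iff_eq_zero_or_one.1 (show IsIdempotentElem (z e) from he.1 z hz) with h0 | h0
      · rw [h0]; simp
      · have h2 := mem_vanish.1 hf z ⟨hz, h0⟩
        rw [map_sub, map_mul, sub_eq_zero] at h2
        rw [h0, mul_one, h2]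
    have hsub : P (f * e) ⊆ S := fun z hz => ⟨hz.1, by
      rcases IsIdempotentElem.iff_eq_zero_or_one.1 (show IsIdempotentElem (z e) from he.1 z hz.1) with h0 | h0
      · have := hz.2
        rw [map_mul, h0, mul_zero] at this
        exact absurd this zero_ne_one
      · exact h0⟩
    have heq : vanish S = vanish (P (f * e)) := by
      rcases eq_or_lt_of_le (show vanish S ≤ vanish (P (f * e)) from
        fun a ha => mem_vanish.2 fun z hz => mem_vanish.1 ha z (hsub hz)) with h | h
      · exact h
      · exact absurd h (hmax _ ⟨⟨f * e, hE⟩, rfl⟩)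
    rw [heq]
    refine mem_vanish.2 fun z hz => ?_
    have h2 := hz.2
    rw [map_mul, (hsub hz).2, mul_one] at h2
    rw [map_sub, map_one, h2, sub_self]
  have hconnS : ∀ f : R ⧸ vanish S, IsIdempotentElem f → f = 0 ∨ f = 1 := by
    intro f hf
    obtain ⟨f, rfl⟩ := Ideal.Quotient.mk_surjective f
    have h : f * f - f ∈ vanish S := by
      rw [← Ideal.Quotient.eq_zero_iff_mem, map_sub, map_mul, sub_eq_zero]
      exact hf
    rcases hSconn f h with h0 | h0
    · exact Or.inl (Ideal.Quotient.eq_zero_iff_mem.2 h0)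
    · right
      have := Ideal.Quotient.eq_zero_iff_mem.2 h0
      rw [map_sub, map_one, sub_eq_zero] at this
      exact this.symm
  -- expressions on a connected source stay in the candidate
  have hword : ∀ {X : Type u} [CommRing X] [Algebra k X] [Algebra.FiniteType k X] [IsReduced X]
      (_ : ∀ f : X, IsIdempotentElem f → f = 0 ∨ f = 1) (y₀ : X →ₐ[k] k) (W : Pt k R (K ⊗[k] X))
      (_ : ∀ x, (evPt x W).ofConv ∈ primZero k R K) (_ : (evPt ((Algebra.ofId k K).comp y₀) W).ofConv ∈ S),
      ∀ x, (evPt x W).ofConv ∈ S := by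
    intro X _ _ _ _ hX y₀ W hN h0 x
    refine ⟨hN x, ?_⟩
    have h := eq_const_of_idem hX y₀ (W.ofConv e) (fun z => he.1 _ (hN z)) x ((Algebra.ofId k K).comp y₀)
    exact h.trans h0.2
  have hy₀ : ∀ y : R ⧸ vanish S →ₐ[k] k, (Algebra.ofId k K).comp y = (Algebra.ofId k K).comp y := fun _ => rfl
  have hbase : ((Algebra.ofId k K).comp x₀').comp q = one' := AlgHom.ext fun a => rfl
  have hmul : ∀ x ∈ S, ∀ y ∈ S, (toConv x * toConv y : Pt k R K).ofConv ∈ S := by
    intro x hx y hy
    let W : Pt k R (K ⊗[k] (R ⧸ vanish S)) := univPt q * cstPt _ (toConv y)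
    have hev : ∀ z, evPt z W = toConv (z.comp q) * toConv y := fun z => by
      rw [map_mul, evPt_univPt, evPt_cstPt]
    have := hword hconnS x₀' W (fun z a ha => by
      rw [hev, mul_prim _ _ ha]
      show (z.comp q) a + y a = 0
      rw [hSN (hqS z) a ha, hSN hy a ha, add_zero]) (by
      rw [hev, hbase]
      show (1 * toConv y : Pt k R K).ofConv ∈ S
      rw [one_mul]
      exact hy) (Ideal.Quotient.liftₐ _ x fun a ha => mem_vanish.1 ha x hx)
    rw [hev] at this
    rwa [show (Ideal.Quotient.liftₐ _ x fun a ha => mem_vanish.1 ha x hx : R ⧸ vanish S →ₐ[k] K).comp q = x from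
      AlgHom.ext fun a => rfl] at this
  have hinv : ∀ x ∈ S, ((toConv x : Pt k R K)⁻¹).ofConv ∈ S := by
    intro x hx
    let W : Pt k R (K ⊗[k] (R ⧸ vanish S)) := (univPt q)⁻¹
    have hev : ∀ z, evPt z W = (toConv (z.comp q))⁻¹ := fun z => by rw [map_inv, evPt_univPt]
    have := hword hconnS x₀' W (fun z a ha => by
      rw [hev, inv_prim _ ha]
      show -(z.comp q) a = 0
      rw [hSN (hqS z) a ha, neg_zero]) (by
      rw [hev, hbase]
      show ((1 : Pt k R K)⁻¹).ofConv ∈ S
      rw [inv_one]
      exact h1S) (Ideal.Quotient.liftₐ _ x fun a ha => mem_vanish.1 ha x hx)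
    rw [hev] at this
    rwa [show (Ideal.Quotient.liftₐ _ x fun a ha => mem_vanish.1 ha x hx : R ⧸ vanish S →ₐ[k] K).comp q = x from
      AlgHom.ext fun a => rfl] at this
  have hbaseR : toConv (((Algebra.ofId k K).comp x₀).comp (AlgHom.id k R)) = (1 : Pt k R K) := rfl
  have hconj : ∀ (g : Pt k R K), ∀ z ∈ S, (g * toConv z * g⁻¹).ofConv ∈ S := by
    intro g z hz
    let W : Pt k R (K ⊗[k] R) := univPt (AlgHom.id k R) * cstPt _ (toConv z) * (univPt (AlgHom.id k R))⁻¹
    have hev : ∀ y : R →ₐ[k] K, evPt y W = toConv y * toConv z * (toConv y)⁻¹ := fun y => by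
      rw [map_mul, map_mul, map_inv, evPt_univPt, evPt_cstPt, AlgHom.comp_id]
    have := hword hconn x₀ W (fun y a ha => by
      rw [hev, mul_prim _ _ ha, mul_prim _ _ ha, inv_prim _ ha]
      show y a + z a + -(y a) = 0
      rw [hSN hz a ha]; ring) (by
      rw [hev, ← AlgHom.comp_id ((Algebra.ofId k K).comp x₀), hbaseR, one_mul, inv_one, mul_one]
      exact hz) g.ofConv
    rwa [hev] at this
  have hcomm : ∀ g h : Pt k R K, ((h * g)⁻¹ * (g * h)).ofConv ∈ S := by
    intro g h
    let W : Pt k R (K ⊗[k] R) :=
      (univPt (AlgHom.id k R) * cstPt _ g)⁻¹ * (cstPt _ g * univPt (AlgHom.id k R))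
    have hev : ∀ y : R →ₐ[k] K, evPt y W = (toConv y * g)⁻¹ * (g * toConv y) := fun y => by
      rw [map_mul, map_inv, map_mul, map_mul, evPt_univPt, evPt_cstPt, AlgHom.comp_id]
    have := hword hconn x₀ W (fun y a ha => by
      rw [hev, mul_prim _ _ ha, inv_prim _ ha, mul_prim _ _ ha, mul_prim _ _ ha]
      ring) (by
      rw [hev, ← AlgHom.comp_id ((Algebra.ofId k K).comp x₀), hbaseR, one_mul, mul_one, inv_mul_cancel]
      exact h1S) h.ofConv
    rwa [hev] at this
  have hpow : ∀ g : Pt k R K, (g ^ p).ofConv ∈ S := by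
    intro g
    let W : Pt k R (K ⊗[k] R) := univPt (AlgHom.id k R) ^ p
    have hev : ∀ y : R →ₐ[k] K, evPt y W = toConv y ^ p := fun y => by
      rw [map_pow, evPt_univPt, AlgHom.comp_id]
    have := hword hconn x₀ W (fun y a ha => by
      rw [hev, pow_prim _ ha, nsmul_eq_mul, CharP.cast_eq_zero, zero_mul]) (by
      rw [hev, ← AlgHom.comp_id ((Algebra.ofId k K).comp x₀), hbaseR, one_pow]
      exact h1S) g.ofConv
    rwa [hev] at this
  -- a normal Hopf ideal
  haveI := isHopfIdeal_vanish hS h1S hmul hinv
  have hnormal : SGA3.IsNormalHopfIdeal k R (vanish S) := by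
    intro T _ _ g h hh a ha
    let gU : Pt k R (R ⊗[k] R) := toConv Algebra.TensorProduct.includeLeft
    let hU : Pt k R (R ⊗[k] R) := toConv Algebra.TensorProduct.includeRight
    let w : R ⊗[k] R := (gU * hU * gU⁻¹).ofConv a
    have hlift : ∀ {T' : Type u} [CommRing T'] [Algebra k T'] (x y : R →ₐ[k] T'),
        Algebra.TensorProduct.lift x y (fun _ _ => Commute.all _ _) w = (toConv x * toConv y * (toConv x)⁻¹).ofConv a := by
      intro T' _ _ x y
      have hl : post (Algebra.TensorProduct.lift x y (fun _ _ => Commute.all _ _)) gU = toConv x :=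
        WithConv.ofConv_injective (AlgHom.ext fun b => by simp [gU, post_apply])
      have hr : post (Algebra.TensorProduct.lift x y (fun _ _ => Commute.all _ _)) hU = toConv y :=
        WithConv.ofConv_injective (AlgHom.ext fun b => by simp [hU, post_apply])
      show (post (Algebra.TensorProduct.lift x y (fun _ _ => Commute.all _ _)) (gU * hU * gU⁻¹)).ofConv a = _
      rw [map_mul, map_mul, map_inv, hl, hr]
    have h0 := map_eq_zero_of_pairs (K := K) hS (w := w) fun x z hz => by
      rw [hlift]
      exact mem_vanish.1 ha _ (hconj (toConv x) z hz)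
    let h' : R ⧸ vanish S →ₐ[k] T := Ideal.Quotient.liftₐ _ h hh
    have hnat : ∀ v : R ⊗[k] R, Algebra.TensorProduct.lift g h (fun _ _ => Commute.all _ _) v =
        Algebra.TensorProduct.lift g h' (fun _ _ => Commute.all _ _)
          (Algebra.TensorProduct.map (AlgHom.id k R) q v) := by
      intro v
      induction v using TensorProduct.induction_on with
      | zero => simp
      | add p q hp hq => simp only [map_add, hp, hq]
      | tmul p r => simp [h', q]
    rw [Conj.conv3_eq, show toConv (g.comp (HopfAlgebra.antipodeAlgHom k R)) = (toConv g : Pt k R T)⁻¹ from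
      (inv_eq (toConv g)).symm, ← hlift, hnat, h0, map_zero]
  -- invariant functions
  have hright : ∀ b ∈ SemiInv.coinv k (vanish S), ∀ (x : Pt k R K), ∀ z ∈ S,
      (x * toConv z).ofConv b = x.ofConv b := by
    intro b hb x z hz
    let z' : R ⧸ vanish S →ₐ[k] K := Ideal.Quotient.liftₐ _ z fun a ha => mem_vanish.1 ha z hz
    have h := congrArg (Algebra.TensorProduct.lift x.ofConv z' fun _ _ => Commute.all _ _) (SemiInv.mem_coinv_iff.1 hb)
    rw [Algebra.TensorProduct.lift_tmul, map_one, mul_one] at h
    rw [AlgHom.convMul_apply, ← h]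
    generalize CoalgebraStruct.comul (R := k) b = v
    induction v using TensorProduct.induction_on with
    | zero => simp
    | add p q hp hq => simp only [map_add, hp, hq]
    | tmul p r => simp [z']
  obtain ⟨T, hT, hTI⟩ := SemiInv.exists_invariants (vanish S) hnormal
  obtain ⟨B, _, _, _, j, hj, hjC, hjT⟩ := SubPts.exists_fin_hopf (SemiInv.isHopfSubalgebra_coinv hnormal) T
    fun t ht => SemiInv.mem_coinv_iff.2 (hT t ht)
  haveI : IsReduced B := isReduced_of_injective (j : B →ₐ[k] R) hj
  have hext := fun y : Pt k B K => SubPts.pre_surjective (K := K) j hj y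
  haveI : Coalgebra.IsCocomm k B := by
    refine ⟨LinearMap.ext fun b => ?_⟩
    show TensorProduct.comm k B B (CoalgebraStruct.comul (R := k) b) = CoalgebraStruct.comul (R := k) b
    rw [← sub_eq_zero]
    have h0 : vanish (Set.univ : Set (B →ₐ[k] K)) = ⊥ :=
      eq_bot_iff.2 fun a ha => (Submodule.mem_bot B).2 (eq_zero_of_forall_pt fun z => mem_vanish.1 ha z trivial)
    have h1 := map_eq_zero_of_pairs (K := K) (Y := B) (isStable_univ (R := B))
      (w := TensorProduct.comm k B B (CoalgebraStruct.comul (R := k) b) - CoalgebraStruct.comul (R := k) b)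
      fun x z _ => by
        obtain ⟨gx, hgx⟩ := hext (toConv x)
        obtain ⟨gz, hgz⟩ := hext (toConv z)
        have hsw : ∀ v : B ⊗[k] B, Algebra.TensorProduct.lift x z (fun _ _ => Commute.all _ _) (TensorProduct.comm k B B v) =
            Algebra.TensorProduct.lift z x (fun _ _ => Commute.all _ _) v := by
          intro v
          induction v using TensorProduct.induction_on with
          | zero => simp
          | add p q hp hq => simp only [map_add, hp, hq]
          | tmul p r => simp [mul_comm]
        rw [map_sub, sub_eq_zero, hsw, show Algebra.TensorProduct.lift z x (fun _ _ => Commute.all _ _)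
          (CoalgebraStruct.comul (R := k) b) = (toConv z * toConv x : Pt k B K).ofConv b from
            (AlgHom.convMul_apply _ _ b).symm, show Algebra.TensorProduct.lift x z (fun _ _ => Commute.all _ _)
          (CoalgebraStruct.comul (R := k) b) = (toConv x * toConv z : Pt k B K).ofConv b from
            (AlgHom.convMul_apply _ _ b).symm, ← hgx, ← hgz, ← map_mul, ← map_mul]
        show (gz * gx).ofConv (j b) = (gx * gz).ofConv (j b)
        have hc := hright (j b) (hjC b) (gz * gx) _ (hcomm gx gz)
        rw [toConv_ofConv, mul_inv_cancel_left] at hc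
        exact hc.symm
    refine (Module.Flat.lTensor_preserves_injective_linearMap (M := B)
      (Ideal.Quotient.mkₐ k (vanish (Set.univ : Set (B →ₐ[k] K)))).toLinearMap
      ((injective_iff_map_eq_zero (Ideal.Quotient.mkₐ k (vanish (Set.univ : Set (B →ₐ[k] K))))).2 fun a ha => by
        have := Ideal.Quotient.eq_zero_iff_mem.1 ha
        rwa [h0, Ideal.mem_bot] at this)) (h1.trans (map_zero _).symm)
  -- generation by additive functions
  have hgenB : Algebra.adjoin k (primSub k B : Set B) = ⊤ := by
    haveI : IsReduced (K ⊗[k] B) := GalPts.isReduced_tensor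
    refine adjoin_eq_top_of_baseChange (K := K) (adjoin_primSub_eq_top_of_algClosed (p := p) fun x => ?_)
    apply Additive.toMul.injective
    rw [toMul_nsmul, toMul_zero]
    show (Additive.toMul x : Pt K (K ⊗[k] B) K) ^ p = 1
    rw [← (ConjRat.bcPt (k := k) (K := K) (X := B)).apply_symm_apply (Additive.toMul x), ← map_pow]
    obtain ⟨g, hg⟩ := hext ((ConjRat.bcPt (k := k) (K := K) (X := B)).symm (Additive.toMul x))
    rw [← hg, ← map_pow]
    have h1 : pre j (g ^ p) = 1 := WithConv.ofConv_injective (AlgHom.ext fun b => by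
      have h := hright (j b) (hjC b) 1 _ (hpow g)
      rw [toConv_ofConv, one_mul] at h
      show (g ^ p).ofConv (j b) = _
      rw [h]
      exact (congrArg (algebraMap k K) (CoalgHomClass.counit_comp_apply j b) :))
    rw [h1, map_one]
  -- hence the candidate is the whole kernel
  have hle : ∀ z ∈ primZero k R K, ∀ a ∈ vanish S, z a = 0 := by
    intro z hz
    have hb : ∀ b : B, z (j b) = algebraMap k K (CoalgebraStruct.counit (R := k) b) := by
      intro b
      have hb : b ∈ Algebra.adjoin k (primSub k B : Set B) := hgenB ▸ Algebra.mem_top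
      induction hb using Algebra.adjoin_induction with
      | mem y hy =>
        rw [counit_eq_zero hy, map_zero]
        refine hz _ (mem_primSub.2 ?_)
        rw [← CoalgHomClass.map_comp_comul_apply j y, mem_primSub.1 hy]
        simp
      | algebraMap s => rw [show j (algebraMap k B s) = algebraMap k R s from (j : B →ₐ[k] R).commutes s,
          AlgHom.commutes, Bialgebra.counit_algebraMap]
      | add x y _ _ hx hy => rw [map_add, map_add, hx, hy, map_add, map_add]
      | mul x y _ _ hx hy => rw [map_mul, map_mul, hx, hy, Bialgebra.counit_mul, map_mul]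
    have hTJ := hTI (RingHom.ker (z : R →+* K)) fun t ht => by
      obtain ⟨b, rfl⟩ := hjT t ht
      rw [RingHom.mem_ker]
      show z (j b - algebraMap k R (CoalgebraStruct.counit (R := k) (j b))) = 0
      rw [map_sub, AlgHom.commutes, hb, CoalgHomClass.counit_comp_apply, sub_self]
    exact fun a ha => hTJ ha
  have hfin : vanish (primZero k R K) = vanish S := le_antisymm
    (fun a ha => mem_vanish.2 fun z hz => mem_vanish.1 ha z hz.1)
    (fun a ha => mem_vanish.2 fun z hz => hle z hz a ha)
  rw [hfin]
  exact hSconn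

include p in
/-- **The additive functions map onto a vector space of points.** -/
theorem exists_surjective_family (hconn : ∀ e : R, IsIdempotentElem e → e = 0 ∨ e = 1) :
    ∃ (n : ℕ) (f : Fin n → R), (∀ i, f i ∈ primSub k R) ∧ (∀ t : Fin n → K, ∃ z : R →ₐ[k] K, ∀ i, z (f i) = t i) ∧
      ∀ z : R →ₐ[k] K, (∀ i, z (f i) = 0) → z ∈ primZero k R K := by
  classical
  haveI : IsNoetherianRing R := Algebra.FiniteType.isNoetherianRing k R
  obtain ⟨s, hsP, hspan⟩ := Submodule.fg_span_iff_fg_span_finset_subset (R := R) (primSub k R : Set R) |>.1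
    (IsNoetherian.noetherian _)
  let C := Algebra.adjoin k (s : Set R)
  have hC := SubPts.isHopfSubalgebra_adjoin_prim (s : Set R) fun a ha => hsP ha
  letI := Lib.Hopf.SubStruct.subHopf hC
  haveI : Algebra.FiniteType k C := (Subalgebra.fg_iff_finiteType C).1 ⟨s, rfl⟩
  let j := SubPts.subInc hC
  have hj : Function.Injective j := Subtype.val_injective
  haveI : IsReduced C := isReduced_of_injective (j : C →ₐ[k] R) hj
  haveI : IsReduced (K ⊗[k] C) := GalPts.isReduced_tensor
  haveI : Algebra.FormallySmooth k C :=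
    (Smooth.formallySmooth_baseChange_iff (k := k) (A := C) (K := K)).1
      (Smooth.formallySmooth (k := K) (B := K ⊗[k] C) Smooth.homogeneous_counit)
  have hidem : ∀ e : C, IsIdempotentElem e → e = 0 ∨ e = 1 := fun e he => by
    rcases hconn (j e) (he.map j) with h | h
    · exact Or.inl (hj (h.trans (map_zero j).symm))
    · exact Or.inr (hj (h.trans (map_one j).symm))
  have hgen : Algebra.adjoin k (primSub k C : Set C) = ⊤ := by
    rw [eq_top_iff]
    rintro ⟨b, hb⟩ -
    induction hb using Algebra.adjoin_induction with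
    | mem y hy => exact Algebra.subset_adjoin (of_map_mem j hj (hsP hy))
    | algebraMap s => exact Subalgebra.algebraMap_mem _ s
    | add y z hy hz h1 h2 => exact add_mem h1 h2
    | mul y z hy hz h1 h2 => exact mul_mem h1 h2
  haveI : Coalgebra.IsCocomm k C := by
    refine ⟨LinearMap.ext fun b => ?_⟩
    have h : ((Algebra.TensorProduct.comm k C C : C ⊗[k] C →ₐ[k] C ⊗[k] C)).comp (Bialgebra.comulAlgHom k C) =
        Bialgebra.comulAlgHom k C := AlgHom.ext_of_adjoin_eq_top hgen fun a ha => by
      show Algebra.TensorProduct.comm k C C (CoalgebraStruct.comul (R := k) (A := C) a) =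
        CoalgebraStruct.comul (R := k) (A := C) a
      rw [mem_primSub.1 ha]
      simp [add_comm]
    exact DFunLike.congr_fun h b
  obtain ⟨n, g, hg, hind⟩ := exists_powIndep_gen (p := p) hidem (le_refl (primSub k C))
    (fun _ ha m => Vec.pow_mem ha m) (let ⟨n, u, hu, htop⟩ := exists_generators hgen; ⟨n, u, hu, htop⟩)
  have hbij : Function.Bijective (toVec g hg.1) := ⟨toVec_injective hg.1 hind, fun a => by
    have ha : a ∈ (toVec g hg.1 : SymmetricAlgebra k (Fin n → k) →ₐ[k] C).range := by
      rw [range_toVec, hg.2]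
      exact Algebra.mem_top
    exact ha⟩
  let e := AlgEquiv.ofBijective (toVec g hg.1 : SymmetricAlgebra k (Fin n → k) →ₐ[k] C) hbij
  refine ⟨n, fun i => j (g i), fun i => mem_primSub.2 ?_, fun t => ?_, fun z hz a ha => ?_⟩
  · rw [← CoalgHomClass.map_comp_comul_apply j (g i), mem_primSub.1 (hg.1 i)]
    simp
  · let y : C →ₐ[k] K := (SymmetricAlgebra.lift (Fintype.linearCombination k t)).comp e.symm.toAlgHom
    obtain ⟨z, hz⟩ := SubPts.pre_surjective (K := K) j hj (toConv y)
    refine ⟨z.ofConv, fun i => ?_⟩
    refine (DFunLike.congr_fun (congrArg WithConv.ofConv hz) (g i)).trans ?_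
    show SymmetricAlgebra.lift (Fintype.linearCombination k t) (e.symm (g i)) = t i
    rw [show e.symm (g i) = SymmetricAlgebra.ι k (Fin n → k) (Pi.single i 1) from
      e.symm_apply_eq.2 (toVec_ι g hg.1 i).symm, SymmetricAlgebra.lift_ι_apply, Fintype.linearCombination_apply_single, one_smul]
  · have hC0 : ∀ b : C, z (j b) = algebraMap k K (CoalgebraStruct.counit (R := k) b) := by
      intro b
      have hb : b ∈ Algebra.adjoin k (Set.range g) := hg.2 ▸ Algebra.mem_top
      induction hb using Algebra.adjoin_induction with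
      | mem y hy =>
        obtain ⟨i, rfl⟩ := hy
        rw [counit_eq_zero (hg.1 i), map_zero]
        exact hz i
      | algebraMap s => rw [show j (algebraMap k C s) = algebraMap k R s from (j : C →ₐ[k] R).commutes s,
          AlgHom.commutes, Bialgebra.counit_algebraMap]
      | add x y _ _ hx hy => rw [map_add, map_add, hx, hy, map_add, map_add]
      | mul x y _ _ hx hy => rw [map_mul, map_mul, hx, hy, Bialgebra.counit_mul, map_mul]
    have h1 : Submodule.span R (primSub k R : Set R) ≤ RingHom.ker (z : R →+* K) := by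
      refine hspan.trans_le (Submodule.span_le.2 fun y hy => ?_)
      show z y = 0
      have hy' := hC0 ⟨y, Algebra.subset_adjoin hy⟩
      rw [show CoalgebraStruct.counit (R := k) (A := C) ⟨y, Algebra.subset_adjoin hy⟩ = 0 from
        counit_eq_zero (of_map_mem j hj (hsP hy)), map_zero] at hy'
      exact hy'
    exact h1 (Submodule.subset_span ha)

end

end Groth.Agent.H66.ConjRat.Kernel
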