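import Groth.Agent.H66.ConjRat.GalPts
import Groth.Agent.H66.ExactSeq
import Groth.Agent.Lib.Hopf.SubHopf
import Groth.Agent.Lib.Hopf.SubStruct
import Groth.Agent.H66.Vec.Prim
import Mathlib

/-! Hopf subalgebras as bialgebra maps, and the extension of their geometric points. -/

set_option autoImplicit false
set_option linter.unusedSectionVars false
set_option linter.style.haveILetI false
universe u

namespace Groth.Agent.H66.ConjRat.SubPts

open TensorProduct WithConv Groth.Agent.H66.MultExt Groth.Agent.H66.Vec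

noncomputable section

variable {k : Type u} [Field k] {R : Type u} [CommRing R] [HopfAlgebra k R]

/-- The inclusion of a Hopf subalgebra. -/
def subInc {C : Subalgebra k R} (hC : SGA3.IsHopfSubalgebra k R C) :
    letI := Lib.Hopf.SubStruct.subHopf hC
    C →ₐc[k] R :=
  letI := Lib.Hopf.SubStruct.subHopf hC
  BialgHom.ofAlgHom C.val rfl (AlgHom.ext fun b => Lib.Hopf.SubStruct.map_subComul hC b)

theorem exists_fin_hopf {C : Subalgebra k R} (hC : SGA3.IsHopfSubalgebra k R C) (T : Finset R)
    (hT : ∀ t ∈ T, t ∈ C) :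
    ∃ (B : Type u) (_ : CommRing B) (_ : HopfAlgebra k B) (_ : Algebra.FiniteType k B) (j : B →ₐc[k] R),
      Function.Injective j ∧ (∀ b, j b ∈ C) ∧ ∀ t ∈ T, ∃ b, j b = t := by
  classical
  letI := Lib.Hopf.SubStruct.subHopf hC
  obtain ⟨B, hTB, hfg, hB⟩ := Lib.Hopf.SubHopf.exists_fg_hopfSubalgebra (k := k)
    (T.attach.image fun t : {x // x ∈ T} => (⟨(t : R), hT (t : R) t.2⟩ : C))
  letI := Lib.Hopf.SubStruct.subHopf hB
  haveI : Algebra.FiniteType k B := (Subalgebra.fg_iff_finiteType B).1 hfg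
  refine ⟨B, inferInstance, inferInstance, inferInstance, (subInc hC).comp (subInc hB), ?_, fun b => b.1.2, ?_⟩
  · exact Subtype.val_injective.comp Subtype.val_injective
  · intro t ht
    exact ⟨⟨⟨t, hT t ht⟩, hTB (by simp [ht])⟩, rfl⟩

theorem antipode_of_prim {a : R} (ha : a ∈ primSub k R) : HopfAlgebraStruct.antipode (R := k) a = -a := by
  have h1 := HopfAlgebra.mul_antipode_rTensor_comul_apply (R := k) a
  rw [mem_primSub.1 ha, counit_eq_zero ha, map_zero] at h1
  simp [HopfAlgebra.antipode_one] at h1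
  exact eq_neg_of_add_eq_zero_left h1

theorem isHopfSubalgebra_adjoin_prim (s : Set R) (hs : ∀ a ∈ s, a ∈ primSub k R) :
    SGA3.IsHopfSubalgebra k R (Algebra.adjoin k s) := by
  classical
  let C := Algebra.adjoin k s
  constructor
  · intro b hb
    have h : C ≤ (Algebra.TensorProduct.map C.val C.val).range.comap (Bialgebra.comulAlgHom k R) :=
      Algebra.adjoin_le fun a ha => by
        refine ⟨(⟨a, Algebra.subset_adjoin ha⟩ : C) ⊗ₜ[k] (1 : C) + (1 : C) ⊗ₜ[k] (⟨a, Algebra.subset_adjoin ha⟩ : C), ?_⟩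
        show Algebra.TensorProduct.map C.val C.val _ = CoalgebraStruct.comul (R := k) a
        rw [mem_primSub.1 (hs a ha)]
        simp
    obtain ⟨z, hz⟩ := h hb
    exact ⟨z, hz⟩
  · intro b hb
    have h : C ≤ C.comap (HopfAlgebra.antipodeAlgHom k R) := Algebra.adjoin_le fun a ha => by
      show HopfAlgebra.antipodeAlgHom k R a ∈ C
      rw [HopfAlgebra.antipodeAlgHom_apply, antipode_of_prim (hs a ha)]
      exact neg_mem (Algebra.subset_adjoin ha)
    exact h hb

variable [Algebra.FiniteType k R] {K : Type u} [Field K] [Algebra k K] [IsAlgClosed K]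

/-- Points of a Hopf subalgebra extend. -/
theorem pre_surjective {B : Type u} [CommRing B] [HopfAlgebra k B] (j : B →ₐc[k] R) (hj : Function.Injective j) :
    Function.Surjective (pre j : Pt k R K → Pt k B K) := by
  intro y
  let S : Subalgebra k R := (j : B →ₐ[k] R).range
  have h1 : ∀ b ∈ S, CoalgebraStruct.comul (R := k) b ∈
      LinearMap.range (TensorProduct.map S.val.toLinearMap S.val.toLinearMap) := by
    rintro _ ⟨b, rfl⟩
    refine ⟨TensorProduct.map (j : B →ₐ[k] R).rangeRestrict.toLinearMap (j : B →ₐ[k] R).rangeRestrict.toLinearMap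
      (CoalgebraStruct.comul (R := k) b), ?_⟩
    show _ = CoalgebraStruct.comul (R := k) (j b)
    rw [← CoalgHomClass.map_comp_comul_apply j b, ← LinearMap.comp_apply, ← TensorProduct.map_comp]
    rfl
  have h2 : ∀ b ∈ S, HopfAlgebraStruct.antipode (R := k) b ∈ S := by
    rintro _ ⟨b, rfl⟩
    exact ⟨HopfAlgebraStruct.antipode (R := k) b, (Lib.Hopf.FaithfullyFlat.map_antipode j b).symm⟩
  haveI := H66.ExactSeq.faithfullyFlat_subalgebra S h1 h2
  let e : B ≃ₐ[k] S := AlgEquiv.ofInjective (j : B →ₐ[k] R) hj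
  let yS : S →ₐ[k] K := y.ofConv.comp e.symm.toAlgHom
  letI : Algebra S K := yS.toRingHom.toAlgebra
  haveI : IsScalarTower k S K := IsScalarTower.of_algebraMap_eq fun c => (yS.commutes c).symm
  haveI : Algebra.FiniteType S R := Algebra.FiniteType.of_restrictScalars_finiteType k S R
  haveI : Nontrivial (K ⊗[S] R) := inferInstance
  obtain ⟨m, hm⟩ := Ideal.exists_maximal (K ⊗[S] R)
  letI : Field ((K ⊗[S] R) ⧸ m) := Ideal.Quotient.field m
  haveI : Module.Finite K ((K ⊗[S] R) ⧸ m) := finite_of_finite_type_of_isJacobsonRing K _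
  let π : K ⊗[S] R →ₐ[K] K := (IsAlgClosed.lift : (K ⊗[S] R) ⧸ m →ₐ[K] K).comp (Ideal.Quotient.mkₐ K m)
  let z : R →ₐ[k] K := ((π.restrictScalars S).comp Algebra.TensorProduct.includeRight).restrictScalars k
  refine ⟨toConv z, WithConv.ofConv_injective (AlgHom.ext fun b => ?_)⟩
  show z (j b) = y.ofConv b
  have h3 : j b = algebraMap S R (e b) := rfl
  rw [h3]
  refine (((π.restrictScalars S).comp Algebra.TensorProduct.includeRight).commutes (e b)).trans ?_
  show y.ofConv (e.symm (e b)) = _
  rw [e.symm_apply_apply]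

end

end Groth.Agent.H66.ConjRat.SubPts
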