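import Groth.Agent.H66.MultType.Dense
import Groth.Agent.H66.EtExt.Main
import Groth.Agent.H66.ConjRat.Pow
import Mathlib

/-!
The points of finite order prime to the characteristic of a smooth group of multiplicative type.
-/

set_option autoImplicit false
set_option linter.style.haveILetI false
universe u

namespace Groth.Agent.H66.ConjRat

open TensorProduct WithConv Groth.Agent.H66.MultExt

noncomputable section

variable {k : Type u} [Field k] {B : Type u} [CommRing B] [HopfAlgebra k B]

/-- A point fixed by all automorphisms and separable is rational. -/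
theorem mem_range_of_fixed_separable {K : Type u} [Field K] [Algebra k K] [Normal k K] {x : K} (hx : IsSeparable k x)
    (hfix : ∀ σ : K ≃ₐ[k] K, σ x = x) : x ∈ Set.range (algebraMap k K) := by
  classical
  have hint : IsIntegral k x := hx.isIntegral
  have hs : ((minpoly k x).map (algebraMap k K)).Separable := Polynomial.Separable.map hx
  have hsp : ((minpoly k x).map (algebraMap k K)).Splits := Normal.splits inferInstance x
  have hroots : ∀ y ∈ ((minpoly k x).map (algebraMap k K)).roots, y = x := by
    intro y hy
    have hy' : Polynomial.aeval y (minpoly k x) = 0 := by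
      rw [Polynomial.mem_roots'] at hy
      rw [Polynomial.aeval_def, ← Polynomial.eval_map]
      exact hy.2
    obtain ⟨σ, hσ⟩ := (Normal.minpoly_eq_iff_mem_orbit (F := k) (E := K)).1
      (minpoly.eq_of_root (hint.isAlgebraic) hy').symm
    exact σ.injective ((show σ y = x from hσ).trans (hfix σ).symm)
  have hle : ((minpoly k x).map (algebraMap k K)).roots.card ≤ 1 := by
    have hnd := Polynomial.nodup_roots hs
    calc ((minpoly k x).map (algebraMap k K)).roots.card
        ≤ ({x} : Multiset K).card := Multiset.card_le_card ((Multiset.le_iff_subset hnd).2 fun y hy => by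
          rw [Multiset.mem_singleton]; exact hroots y hy)
      _ = 1 := Multiset.card_singleton x
  rw [← Polynomial.Splits.natDegree_eq_card_roots hsp, Polynomial.natDegree_map] at hle
  exact minpoly.natDegree_eq_one_iff.1 (le_antisymm hle (minpoly.natDegree_pos hint))

/-- The values of a point killed by an exponent prime to the characteristic are separable. -/
theorem isSeparable_of_pow_eq_one [Algebra.FiniteType k B] [Coalgebra.IsCocomm k B] {K : Type u} [Field K]
    [Algebra k K] [Algebra.IsAlgebraic k K] (h : Pt k B K) {n : ℕ} (hn : (n : k) ≠ 0) (hh : h ^ n = 1) (b : B) :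
    IsSeparable k (h.ofConv b) := by
  classical
  let L : IntermediateField k K := IntermediateField.adjoin k (Set.range h.ofConv)
  have hmem : ∀ b, h.ofConv b ∈ L := fun b => IntermediateField.subset_adjoin k _ ⟨b, rfl⟩
  let hL : Pt k B L := toConv
    { toFun := fun b => ⟨h.ofConv b, hmem b⟩
      map_one' := Subtype.ext (map_one _)
      map_mul' := fun x y => Subtype.ext (map_mul _ x y)
      map_zero' := Subtype.ext (map_zero _)
      map_add' := fun x y => Subtype.ext (map_add _ x y)
      commutes' := fun r => Subtype.ext (AlgHom.commutes h.ofConv r) }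
  have hLn : hL ^ n = 1 := by
    have hinj : Function.Injective (post (X := B) L.val) := fun f g hfg =>
      WithConv.ofConv_injective (AlgHom.ext fun x => L.val.injective
        (congrArg (fun F : Pt k B K => F.ofConv x) hfg))
    refine hinj ?_
    rw [map_pow, map_one]
    exact hh
  let W := KaehlerDifferential k L
  letI : Module Lᵐᵒᵖ W := Module.compHom W ((RingHom.id L).fromOpposite mul_comm)
  haveI : IsCentralScalar L W := ⟨fun _ _ => rfl⟩
  let E := TrivSqZeroExt L W
  let τ₀ : L →ₐ[k] E :=
    AlgHom.ofLinearMap (TrivSqZeroExt.inlAlgHom k L W).toLinearMap (map_one (TrivSqZeroExt.inlAlgHom k L W))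
      (fun x y => map_mul (TrivSqZeroExt.inlAlgHom k L W) x y)
  let τ₁ : L →ₐ[k] E :=
    AlgHom.ofLinearMap
      ((TrivSqZeroExt.inlAlgHom k L W).toLinearMap +
        ((TrivSqZeroExt.inrHom L W).restrictScalars k).comp (KaehlerDifferential.D k L).toLinearMap)
      (by simp)
      (fun x y => by
        apply TrivSqZeroExt.ext
        · show x * y + 0 = (x + 0) * (y + 0)
          simp
        · show (0 : W) + KaehlerDifferential.D k L (x * y) =
            (x + 0) • ((0 : W) + KaehlerDifferential.D k L y) + MulOpposite.op (y + 0) • ((0 : W) + KaehlerDifferential.D k L x)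
          rw [op_smul_eq_smul]
          simp)
  let t : Pt k B E := post τ₁ hL * (post τ₀ hL)⁻¹
  have ht : t ^ n = 1 := by
    rw [(commute_of_cocomm _ _).mul_pow, inv_pow, ← map_pow, ← map_pow, hLn, map_one, map_one, inv_one, mul_one]
  let f₀ : E →ₐ[k] L := (TrivSqZeroExt.fstHom k L W)
  have hf : post f₀ t = 1 := by
    rw [map_mul, post_inv]
    have : post f₀ (post τ₁ hL) = post f₀ (post τ₀ hL) := by
      refine WithConv.ofConv_injective (AlgHom.ext fun x => ?_)
      show hL.ofConv x + 0 = hL.ofConv x
      simp
    rw [this, mul_inv_cancel]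
  -- the second component of a point reducing to the unit
  let d : B → W := fun x => (t.ofConv x).snd
  have htfst : ∀ x, (t.ofConv x).fst = algebraMap k L (CoalgebraStruct.counit (R := k) x) := fun x =>
    congrArg (fun F : Pt k B L => F.ofConv x) hf
  have hpow : ∀ m : ℕ, ∀ x, ((t ^ m).ofConv x).fst = algebraMap k L (CoalgebraStruct.counit (R := k) x) ∧
      ((t ^ m).ofConv x).snd = (m : ℕ) • d x := by
    intro m
    induction m with
    | zero =>
      intro x
      rw [pow_zero]
      show (algebraMap k E _).fst = _ ∧ (algebraMap k E _).snd = _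
      constructor
      · rfl
      · rw [zero_smul]; rfl
    | succ m ih =>
      intro x
      rw [pow_succ, show (t ^ m * t).ofConv x = (t ^ m * t) x from rfl, AlgHom.convMul_apply]
      have e1 : ∀ z : B ⊗[k] B, (Algebra.TensorProduct.lift (t ^ m).ofConv t.ofConv (fun _ _ => Commute.all _ _) z).fst =
          algebraMap k L (TensorProduct.lid k k (TensorProduct.map (CoalgebraStruct.counit (R := k))
            (CoalgebraStruct.counit (R := k)) z)) ∧
        (Algebra.TensorProduct.lift (t ^ m).ofConv t.ofConv (fun _ _ => Commute.all _ _) z).snd =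
          (m : ℕ) • d (TensorProduct.rid k B ((CoalgebraStruct.counit (R := k)).lTensor B z)) +
            d (TensorProduct.lid k B ((CoalgebraStruct.counit (R := k)).rTensor B z)) := by
        intro z
        induction z using TensorProduct.induction_on with
        | zero => simp [d]
        | add p q hp hq =>
          refine ⟨?_, ?_⟩
          · simp only [map_add]
            rw [← hp.1, ← hq.1]
            rfl
          · simp only [map_add, d]
            erw [TrivSqZeroExt.snd_add, hp.2, hq.2, TrivSqZeroExt.snd_add, TrivSqZeroExt.snd_add, smul_add]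
            simp only [d]
            abel
        | tmul p q =>
          refine ⟨?_, ?_⟩
          · rw [Algebra.TensorProduct.lift_tmul, TrivSqZeroExt.fst_mul, (ih p).1, htfst, TensorProduct.map_tmul,
              TensorProduct.lid_tmul, smul_eq_mul, map_mul]
          · rw [Algebra.TensorProduct.lift_tmul, TrivSqZeroExt.snd_mul, (ih p).1, (ih p).2, htfst,
              LinearMap.lTensor_tmul, LinearMap.rTensor_tmul, TensorProduct.rid_tmul, TensorProduct.lid_tmul]
            simp only [d, map_smul, TrivSqZeroExt.snd_smul, op_smul_eq_smul, algebraMap_smul]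
            rw [add_comm, smul_comm]
            rfl
      refine ⟨?_, ?_⟩
      · rw [(e1 _).1]
        congr 1
        rw [← LinearMap.rTensor_comp_lTensor, LinearMap.comp_apply, Coalgebra.lTensor_counit_comul]
        simp
      · rw [(e1 _).2, Coalgebra.lTensor_counit_comul, Coalgebra.rTensor_counit_comul]
        simp [add_smul]
  have hd : ∀ x, d x = 0 := by
    intro x
    have h1 := (hpow n x).2
    rw [ht] at h1
    have h2 : (n : k) • d x = 0 := by
      rw [Nat.cast_smul_eq_nsmul, ← h1]
      rfl
    exact (smul_eq_zero.1 h2).resolve_left hn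
  have hD : ∀ x, KaehlerDifferential.D k L (hL.ofConv x) = 0 := by
    have ht1 : t = 1 := by
      refine WithConv.ofConv_injective (AlgHom.ext fun x => ?_)
      apply TrivSqZeroExt.ext
      · exact htfst x
      · exact hd x
    have h2 : post τ₁ hL = post τ₀ hL := mul_inv_eq_one.1 ht1
    intro x
    have h3 := congrArg (fun F : Pt k B E => (F.ofConv x).snd) h2
    simp [τ₀, τ₁, post_apply] at h3
    exact h3.trans (TrivSqZeroExt.snd_inl (R := L) (M := W) _)
  haveI : Algebra.FormallyUnramified k L := by
    refine ⟨?_⟩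
    have htop : (⊤ : Submodule L W) = ⊥ := by
      rw [← KaehlerDifferential.span_range_derivation, Submodule.span_eq_bot]
      rintro _ ⟨⟨y, hy⟩, rfl⟩
      induction hy using IntermediateField.adjoin_induction with
      | mem y hy => obtain ⟨x, rfl⟩ := hy; exact hD x
      | algebraMap r => exact Derivation.map_algebraMap _ r
      | add a b ha hb iha ihb =>
        rw [show (⟨a + b, _⟩ : L) = ⟨a, ha⟩ + ⟨b, hb⟩ from rfl, map_add, iha, ihb, add_zero]
      | inv a ha iha =>
        rw [show (⟨a⁻¹, _⟩ : L) = (⟨a, ha⟩ : L)⁻¹ from rfl, Derivation.leibniz_inv, iha, smul_zero]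
      | mul a b ha hb iha ihb =>
        rw [show (⟨a * b, _⟩ : L) = ⟨a, ha⟩ * ⟨b, hb⟩ from rfl, Derivation.leibniz, iha, ihb, smul_zero, smul_zero,
          add_zero]
    exact (Submodule.subsingleton_iff L).1 (subsingleton_iff_bot_eq_top.1 htop.symm)
  haveI : Algebra.EssFiniteType k L := by
    obtain ⟨s, hs⟩ := Algebra.FiniteType.out (R := k) (A := B)
    have hLeq : L = IntermediateField.adjoin k (h.ofConv '' (s : Set B)) := by
      refine le_antisymm (IntermediateField.adjoin_le_iff.2 ?_) (IntermediateField.adjoin.mono k _ _ (by simp [Set.image_subset_range]))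
      rintro _ ⟨x, rfl⟩
      have hx : x ∈ Algebra.adjoin k (s : Set B) := hs.symm ▸ Algebra.mem_top
      have := AlgHom.map_adjoin h.ofConv (s : Set B) ▸ Subalgebra.mem_map.2 ⟨x, hx, rfl⟩
      exact IntermediateField.algebra_adjoin_le_adjoin k _ this
    haveI : Finite (h.ofConv '' (s : Set B) : Set K) := Set.toFinite _ |>.to_subtype
    rw [hLeq]
    haveI := IntermediateField.finiteDimensional_adjoin (K := k) (S := h.ofConv '' (s : Set B))
      fun x _ => (Algebra.IsAlgebraic.isAlgebraic x).isIntegral
    infer_instance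
  haveI : Algebra.IsSeparable k L := Algebra.FormallyUnramified.isSeparable k L
  have h4 : IsSeparable k (⟨h.ofConv b, hmem b⟩ : L) := Algebra.IsSeparable.isSeparable k _
  show (minpoly k (h.ofConv b)).Separable
  rw [show h.ofConv b = L.val ⟨h.ofConv b, hmem b⟩ from rfl, minpoly.algHom_eq L.val L.val.injective]
  exact h4

/-- The character of a point with values in a split group. -/
def charOf {K : Type u} [Field K] [Algebra k K] {M : Type u} [CommGroup M] (e : K ⊗[k] B ≃ₐc[K] MonoidAlgebra K M) :
    Pt k B K ≃* (M →* K) where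
  toFun h := ((bcPt h).ofConv.comp (e.symm : MonoidAlgebra K M →ₐ[K] K ⊗[k] B)).toMonoidHom.comp (MonoidAlgebra.of K M)
  invFun χ := bcPt.symm (toConv ((MonoidAlgebra.lift K K M χ).comp (e : K ⊗[k] B →ₐ[K] MonoidAlgebra K M)))
  left_inv h := by
    apply bcPt.injective
    rw [MulEquiv.apply_symm_apply]
    refine WithConv.ofConv_injective (AlgHom.ext fun z => ?_)
    obtain ⟨y, rfl⟩ := e.symm.surjective z
    show MonoidAlgebra.lift K K M _ (e (e.symm y)) = (bcPt h).ofConv (e.symm y)
    rw [e.apply_symm_apply]
    induction y using MonoidAlgebra.induction_linear with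
    | zero => simp
    | add p q hp hq => simp only [map_add, hp, hq]
    | single m r =>
      rw [MonoidAlgebra.lift_single, show MonoidAlgebra.single m r = r • MonoidAlgebra.single m (1 : K) by
        rw [MonoidAlgebra.smul_single, smul_eq_mul, mul_one], map_smul, map_smul]
      rfl
  right_inv χ := by
    refine MonoidHom.ext fun m => ?_
    show (bcPt (bcPt.symm _)).ofConv (e.symm (MonoidAlgebra.single m 1)) = χ m
    rw [MulEquiv.apply_symm_apply]
    show MonoidAlgebra.lift K K M χ (e (e.symm (MonoidAlgebra.single m 1))) = χ m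
    rw [e.apply_symm_apply, MonoidAlgebra.lift_single, one_smul]
  map_mul' h h' := by
    refine MonoidHom.ext fun m => ?_
    show (bcPt (h * h')).ofConv (e.symm (MonoidAlgebra.single m 1)) =
      (bcPt h).ofConv (e.symm (MonoidAlgebra.single m 1)) * (bcPt h').ofConv (e.symm (MonoidAlgebra.single m 1))
    rw [map_mul]
    exact mul_apply_groupLike _ _ ((MonoidAlgebra.isGroupLikeElem_single_one m).map e.symm)

theorem charOf_apply {K : Type u} [Field K] [Algebra k K] {M : Type u} [CommGroup M]
    (e : K ⊗[k] B ≃ₐc[K] MonoidAlgebra K M) (h : Pt k B K) (m : M) :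
    charOf e h m = (bcPt h).ofConv (e.symm (MonoidAlgebra.single m 1)) := rfl

/-- There are only finitely many points of given exponent. -/
theorem finite_torsion [Algebra.FiniteType k B] {K : Type u} [Field K] [Algebra k K] {M : Type u} [CommGroup M]
    (e : K ⊗[k] B ≃ₐc[K] MonoidAlgebra K M) {n : ℕ} (hn : 0 < n) : {h : Pt k B K | h ^ n = 1}.Finite := by
  classical
  haveI : Algebra.FiniteType K (MonoidAlgebra K M) :=
    Algebra.FiniteType.of_surjective (e : K ⊗[k] B →ₐ[K] MonoidAlgebra K M) e.surjective
  haveI : Monoid.FG M := (MonoidAlgebra.finiteType_iff_fg (R := K)).1 inferInstance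
  obtain ⟨s, hs⟩ := Monoid.fg_def.1 ‹Monoid.FG M›
  let F : {h : Pt k B K | h ^ n = 1} → (s → (Polynomial.nthRootsFinset n (1 : K))) := fun h m =>
    ⟨charOf e h.1 m, by
      rw [Polynomial.mem_nthRootsFinset hn, ← MonoidHom.pow_apply, ← map_pow, show h.1 ^ n = 1 from h.2, map_one]
      rfl⟩
  have hF : Function.Injective F := by
    intro h h' hh'
    refine Subtype.ext ((charOf e).injective (MonoidHom.eq_of_eqOn_denseM hs fun m hm => ?_))
    exact congrArg Subtype.val (congrFun hh' ⟨m, hm⟩)
  exact Set.finite_coe_iff.1 (Finite.of_injective F hF)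

/-- The torsion points detect the functions with coefficients in an algebraically closed field. -/
theorem eq_zero_of_forall_torsion_ext [Algebra.FiniteType k B] [Algebra.FormallySmooth k B] {K : Type u} [Field K]
    [IsAlgClosed K] [Algebra k K] {M : Type u} [CommGroup M] (e : K ⊗[k] B ≃ₐc[K] MonoidAlgebra K M) {z : K ⊗[k] B}
    (hz : ∀ (n : ℕ) (h : Pt k B K), (n : k) ≠ 0 → h ^ n = 1 → (bcPt h).ofConv z = 0) : z = 0 := by
  classical
  haveI : Algebra.FiniteType K (MonoidAlgebra K M) :=
    Algebra.FiniteType.of_surjective (e : K ⊗[k] B →ₐ[K] MonoidAlgebra K M) e.surjective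
  haveI : Group.FG M := (MonoidAlgebra.finiteType_iff_group_fg (R := K)).1 inferInstance
  haveI : Module.Finite ℤ (Additive M) := Module.Finite.iff_addGroup_fg.2 inferInstance
  let X : Submonoid (M →* K) :=
    { carrier := {χ | ∃ n : ℕ, (n : k) ≠ 0 ∧ χ ^ n = 1}
      one_mem' := ⟨1, by simp, one_pow _⟩
      mul_mem' := fun {x y} ⟨a, ha, hxa⟩ ⟨c, hc, hyc⟩ => ⟨a * c, by
        rw [Nat.cast_mul]; exact mul_ne_zero ha hc, by
        rw [mul_pow, pow_mul, hxa, one_pow, mul_comm a c, pow_mul, hyc, one_pow, mul_one]⟩ }
  let f : M → (X →* K) := fun m =>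
    { toFun := fun χ => χ.1 m, map_one' := rfl, map_mul' := fun _ _ => rfl }
  have hf : Function.Injective f := by
    intro m m' hmm
    by_contra hne
    have hd : m / m' ≠ 1 := fun h => hne (div_eq_one.1 h)
    obtain ⟨n, hn, hny⟩ := H66.MultType.exists_not_mem_range_nsmul (M := Additive M) (ringChar k)
      (CharP.char_is_prime_or_zero k (ringChar k)).symm
      (fun hp x hx => H66.MultType.eq_one_of_pow_ringChar e hp (congrArg Additive.toMul hx))
      (d := Additive.ofMul (m / m')) hd
    have hn0 : (n : k) ≠ 0 := fun h => hn.2 ((CharP.cast_eq_zero_iff k (ringChar k) n).1 h)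
    have hnK : (n : K) ≠ 0 := by
      rw [← map_natCast (algebraMap k K)]; exact fun h => hn0 ((algebraMap k K).injective (by rw [h, map_zero]))
    haveI : NeZero (n : K) := ⟨hnK⟩
    haveI : NeZero n := ⟨hn.1.ne'⟩
    let P : Subgroup M := (powMonoidHom n).range
    let Q := M ⧸ P
    have hexp : ∀ q : Q, q ^ n = 1 := by
      intro q
      obtain ⟨x, rfl⟩ := QuotientGroup.mk_surjective q
      rw [← QuotientGroup.mk_pow, QuotientGroup.eq_one_iff]
      exact ⟨x, rfl⟩
    haveI : Group.FG Q := QuotientGroup.fg P
    haveI : Finite Q := CommGroup.finite_of_fg_torsion Q fun q => isOfFinOrder_iff_pow_eq_one.2 ⟨n, hn.1, hexp q⟩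
    have hq : (QuotientGroup.mk (m / m') : Q) ≠ 1 := by
      rw [Ne, QuotientGroup.eq_one_iff]
      rintro ⟨y, hy⟩
      exact hny (Additive.ofMul y) (congrArg Additive.ofMul hy)
    haveI : HasEnoughRootsOfUnity K (Monoid.exponent Q) := by
      exact HasEnoughRootsOfUnity.of_dvd K (Monoid.exponent_dvd_of_forall_pow_eq_one hexp)
    obtain ⟨φ, hφ⟩ := CommGroup.exists_apply_ne_one_of_hasEnoughRootsOfUnity Q K hq
    let χ : M →* K := (Units.coeHom K).comp (φ.comp (QuotientGroup.mk' P))
    have hχ : χ ∈ X := ⟨n, hn0, MonoidHom.ext fun x => by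
      show ((φ (QuotientGroup.mk x) : Kˣ) : K) ^ n = 1
      rw [← Units.val_pow_eq_pow_val, ← map_pow, hexp, map_one, Units.val_one]⟩
    have h1 : χ m = χ m' := DFunLike.congr_fun hmm (⟨χ, hχ⟩ : X)
    refine hφ ?_
    show φ (QuotientGroup.mk' P (m / m')) = 1
    rw [map_div, map_div, div_eq_one]
    exact Units.ext h1
  refine e.injective (Eq.trans ?_ (map_zero e).symm)
  have hli := (linearIndependent_monoidHom X K).comp f hf
  refine MonoidAlgebra.coeff_injective ?_
  refine linearIndependent_iff.1 hli _ ?_
  refine funext fun χ => ?_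
  obtain ⟨n, hn, hχn⟩ := χ.2
  have h2 := hz n ((charOf e).symm χ.1) hn (by rw [← map_pow, hχn, map_one])
  have h3 : MonoidAlgebra.lift K K M χ.1 (e z) = 0 := by
    rw [← h2, show bcPt ((charOf e).symm χ.1) = _ from MulEquiv.apply_symm_apply _ _]
    rfl
  rw [MonoidAlgebra.lift_apply] at h3
  simp [Finsupp.linearCombination_apply, Finsupp.sum, f] at h3 ⊢
  exact h3

/-- The torsion points detect the elements of a smooth group of multiplicative type. -/
theorem eq_zero_of_forall_torsion [Algebra.FiniteType k B] [Algebra.FormallySmooth k B] {K : Type u} [Field K]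
    [IsAlgClosed K] [Algebra k K] {M : Type u} [CommGroup M] (e : K ⊗[k] B ≃ₐc[K] MonoidAlgebra K M) {b : B}
    (hb : ∀ (n : ℕ) (h : Pt k B K), (n : k) ≠ 0 → h ^ n = 1 → h.ofConv b = 0) : b = 0 :=
  H66.MultType.eq_zero_of_one_tmul (eq_zero_of_forall_torsion_ext e (z := (1 : K) ⊗ₜ[k] b) fun n h hn hh => by
    rw [bcPt_apply, hb n h hn hh, mul_zero])

end

end Groth.Agent.H66.ConjRat
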